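import Groth.Agent.Grpsch.PicGrp
import Groth.Agent.CurvesB.HZero
import Mathlib.AlgebraicGeometry.Morphisms.Proper

/-!
# Sections of invertible modules on an integral scheme: products of nonzero sections are nonzero,
and an invertible module which together with its inverse has nonzero sections is trivial
-/

set_option autoImplicit false
universe u

open CategoryTheory Limits AlgebraicGeometry TopologicalSpace Opposite

namespace K456.SecTriv

open Groth.Agent Groth.Agent.Fdesc.LocGen Groth.Agent.Grpsch.PicGrp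

section Integral

variable {X : Scheme.{u}} [IsIntegral X]

theorem ores_injective {U V : X.Opens} (h : V ≤ U) {x : X} (hx : x ∈ V) :
    Function.Injective (ores h) := by
  have : Nonempty V := ⟨⟨x, hx⟩⟩
  exact map_injective_of_isIntegral X (homOfLE h)

/-- On an integral scheme, a section of an invertible module vanishing on a nonempty open is
zero. -/
theorem eq_zero_of_res {M : X.Modules} (hM : PicF.IsInvertible M) {U V : X.Opens} (h : V ≤ U)
    {x : X} (hx : x ∈ V) (s : Γ(M, U)) (hs : res M h s = 0) : s = 0 := by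
  have key : ∀ y ∈ U, ∃ (W : X.Opens) (hW : W ≤ U), y ∈ W ∧ res M hW s = 0 := by
    intro y hy
    obtain ⟨W', e, hyW, he⟩ := (isInvertible_iff M).1 hM y
    refine ⟨W' ⊓ U, inf_le_right, ⟨hyW, hy⟩, ?_⟩
    have he1 := he.res (inf_le_left : W' ⊓ U ≤ W')
    obtain ⟨a, ha⟩ := he1.exists_eq (res M inf_le_right s)
    obtain ⟨z, hz1, hz2⟩ := nonempty_preirreducible_inter (X := X)
      (W' ⊓ U).2 V.2 ⟨y, hyW, hy⟩ ⟨x, hx⟩
    have h1 : res M (inf_le_left : (W' ⊓ U) ⊓ V ≤ W' ⊓ U) (res M inf_le_right s) = 0 := by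
      rw [res_res]
      have : res M (inf_le_right : (W' ⊓ U) ⊓ V ≤ V) (res M h s) = 0 := by rw [hs, map_zero]
      rwa [res_res] at this
    rw [ha, res_smul] at h1
    have h2 : ores (inf_le_left : (W' ⊓ U) ⊓ V ≤ W' ⊓ U) a = 0 := by
      apply (he1.res (inf_le_left : (W' ⊓ U) ⊓ V ≤ W' ⊓ U)).ext
      rw [h1, zero_smul]
    have h3 : a = 0 := by
      apply ores_injective (inf_le_left : (W' ⊓ U) ⊓ V ≤ W' ⊓ U) (x := z) ⟨hz1, hz2⟩
      rw [h2, map_zero]
    rw [ha, h3, zero_smul]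
  choose! W hW hyW hres using key
  refine res_ext M (ι := U) (fun y => W y.1) (fun y => hW y.1 y.2) ?_ ?_
  · intro y hy
    exact Opens.mem_iSup.2 ⟨⟨y, hy⟩, hyW y hy⟩
  · intro y
    rw [hres y.1 y.2, map_zero]

omit [IsIntegral X] in
/-- local form of two sections. -/
theorem exists_loc {L M : X.Modules} (hL : PicF.IsInvertible L) (hM : PicF.IsInvertible M)
    (s : Γ(L, ⊤)) (t : Γ(M, ⊤)) (x : X) :
    ∃ (W : X.Opens) (e : Γ(L, W)) (f : Γ(M, W)) (a b : Γ(X, W)), x ∈ W ∧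
      IsGen e ∧ IsGen f ∧ res L le_top s = a • e ∧ res M le_top t = b • f := by
  obtain ⟨U, e, hxU, he⟩ := (isInvertible_iff L).1 hL x
  obtain ⟨V, f, hxV, hf⟩ := (isInvertible_iff M).1 hM x
  have he' := he.res (inf_le_left : U ⊓ V ≤ U)
  have hf' := hf.res (inf_le_right : U ⊓ V ≤ V)
  obtain ⟨a, ha⟩ := he'.exists_eq (res L le_top s)
  obtain ⟨b, hb⟩ := hf'.exists_eq (res M le_top t)
  exact ⟨U ⊓ V, _, _, a, b, ⟨hxU, hxV⟩, he', hf', ha, hb⟩

/-- The product of nonzero sections of invertible modules on an integral scheme is nonzero. -/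
theorem tmul_ne_zero {L M : X.Modules} (hL : PicF.IsInvertible L) (hM : PicF.IsInvertible M)
    {s : Γ(L, ⊤)} (hs : s ≠ 0) {t : Γ(M, ⊤)} (ht : t ≠ 0) : tmul s t ≠ 0 := by
  intro h0
  obtain ⟨x⟩ : Nonempty X := inferInstance
  obtain ⟨W, e, f, a, b, hx, he, hf, ha, hb⟩ := exists_loc hL hM s t x
  have h1 : res (CohB1.tensorMod L M) (le_top : W ≤ ⊤) (tmul s t) = 0 := by rw [h0, map_zero]
  rw [res_tmul, ha, hb, smul_tmul, tmul_smul, smul_smul] at h1
  have h2 : a * b = 0 := by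
    apply (he.tmul hf).ext
    rw [h1, zero_smul]
  have : Nonempty W := ⟨⟨x, hx⟩⟩
  rcases mul_eq_zero.1 h2 with h3 | h3
  · apply hs
    apply eq_zero_of_res hL (le_top : W ≤ ⊤) hx
    rw [ha, h3, zero_smul]
  · apply ht
    apply eq_zero_of_res hM (le_top : W ≤ ⊤) hx
    rw [hb, h3, zero_smul]

/-- A nonzero section of `L` gives a nonzero section of `L^n`. -/
theorem exists_ne_zero_tensorPow {L : X.Modules} (hL : PicF.IsInvertible L)
    {s : Γ(L, ⊤)} (hs : s ≠ 0) (n : ℕ) : ∃ t : Γ(CohB1.tensorPow L n, ⊤), t ≠ 0 := by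
  induction n with
  | zero =>
    refine ⟨(one ⊤ : Γ(Coh.structureModule X, ⊤)), fun h => ?_⟩
    have h0 : (one ⊤ : Γ(Coh.structureModule X, ⊤)) = 0 := h
    have h1 : (1 : Γ(X, ⊤)) = 0 :=
      (isGen_one (X := X) ⊤).ext (a := 1) (b := 0) (by rw [h0, smul_zero, smul_zero])
    exact one_ne_zero h1
  | succ n ih =>
    obtain ⟨t, ht⟩ := ih
    exact ⟨tmul t s, tmul_ne_zero (isInvertible_tensorPow hL n) hL ht hs⟩

/-- On an integral scheme whose global functions form a field, an invertible module `L` such that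
both `L` and its inverse have nonzero sections is trivial. -/
theorem eq_one_of_sections (hF : IsField Γ(X, ⊤)) {L M : X.Modules}
    (hL : PicF.IsInvertible L) (hM : PicF.IsInvertible M) (h : mk L hL * mk M hM = 1)
    (s : Γ(L, ⊤)) (hs : s ≠ 0) (t : Γ(M, ⊤)) (ht : t ≠ 0) : mk L hL = 1 := by
  rw [mk_mul_mk, mk_eq_one_iff] at h
  obtain ⟨φ⟩ := h
  have hne : tmul s t ≠ 0 := tmul_ne_zero hL hM hs ht
  have hgen : IsGen (tmul s t) := by
    set g : Γ(X, ⊤) := ofFun.symm (φ.hom.app ⊤ (tmul s t)) with hg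
    have hg' : φ.hom.app ⊤ (tmul s t) = g • one ⊤ := by
      rw [← ofFun_eq_smul, hg, AddEquiv.apply_symm_apply]
    have hback : tmul s t = φ.inv.app ⊤ (g • one ⊤) := by
      rw [← hg']
      exact (congr($(congrArg (fun q => Scheme.Modules.Hom.app q ⊤) φ.hom_inv_id)
        (tmul s t))).symm
    have hg0 : g ≠ 0 := by
      intro h0
      apply hne
      rw [hback, h0, zero_smul, map_zero]
    have hu : IsUnit g := by
      obtain ⟨g', hg'⟩ := hF.mul_inv_cancel hg0
      exact IsUnit.of_mul_eq_one _ hg'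
    rw [hback]
    exact IsGen.app φ.inv ((isGen_one ⊤).unit_smul hu)
  have hsgen : IsGen s := by
    rw [isGen_iff_forall_exists]
    intro x _
    obtain ⟨W, e, f, a, b, hx, he, hf, ha, hb⟩ := exists_loc hL hM s t x
    refine ⟨W, le_top, hx, ?_⟩
    have h1 := hgen.res (le_top : W ≤ ⊤)
    rw [res_tmul, ha, hb, smul_tmul, tmul_smul, smul_smul, (he.tmul hf).smul_iff] at h1
    rw [ha]
    exact he.unit_smul (isUnit_of_mul_isUnit_left h1)
  have hiso : IsIso (homOf s) := by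
    rw [isIso_iff_isGen, sec_homOf, res_refl]
    exact hsgen
  rw [mk_eq_one_iff]
  exact ⟨(asIso (homOf s)).symm⟩

/-- Nontriviality of `H⁰` in terms of sections. -/
theorem exists_ne_zero_of_nontrivial {X : Scheme.{u}} {L : X.Modules} (h : Nontrivial (Coh.HH X L 0)) :
    ∃ s : Γ(L, ⊤), s ≠ 0 := by
  obtain ⟨x, hx⟩ := exists_ne (0 : Coh.HH X L 0)
  exact ⟨CurvesB.HZero.equivAdd L x, by
    rwa [Ne, (CurvesB.HZero.equivAdd L).map_eq_zero_iff]⟩

theorem nontrivial_of_ne_zero {X : Scheme.{u}} {L : X.Modules} {s : Γ(L, ⊤)} (hs : s ≠ 0) :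
    Nontrivial (Coh.HH X L 0) :=
  ⟨⟨(CurvesB.HZero.equivAdd L).symm s, 0, by
    rwa [Ne, (CurvesB.HZero.equivAdd L).symm.map_eq_zero_iff]⟩⟩

end Integral

/-- If `M ⊗ L ≅ O` with `L` invertible then `M` is invertible. -/
theorem isInvertible_of_inverse {X : Scheme.{u}} {L M : X.Modules} (hL : PicF.IsInvertible L)
    (e : CohB1.tensorMod M L ≅ Coh.structureModule X) : PicF.IsInvertible M := by
  have e1 : M ≅ dual L := (Ega2.Tens.runit M).symm ≪≫
    Ega2.Tens.mapTIso (Iso.refl M) (@asIso _ _ _ _ (ev L) (isIso_ev hL)).symm ≪≫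
    (Ega2.Tens.assoc M L (dual L)).symm ≪≫ Ega2.Tens.mapTIso e (Iso.refl _) ≪≫ Ega2.Tens.lunit _
  intro x
  obtain ⟨U, hxU, ⟨e2⟩⟩ := isInvertible_dual hL x
  exact ⟨U, hxU, ⟨(Scheme.Modules.restrictFunctor U.ι).mapIso e1 ≪≫ e2⟩⟩

end K456.SecTriv
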