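import Groth.Agent.Desc.FinLocFreeSections
import Groth.Agent.PerfB.StructFlat
import Groth.Agent.Ega3B.FlatRestrict
import Groth.Agent.Models2.FlatIso
import Groth.Agent.Ega2.QCohLocal

/-!
# Invertible modules are flat over the base of a flat morphism
-/

set_option autoImplicit false
universe u

open CategoryTheory Limits AlgebraicGeometry TopologicalSpace Opposite

namespace K456.FlatInv

open Groth.Agent

theorem isFinLocFree_of_isInvertible {X : Scheme.{u}} {L : X.Modules} (hL : PicF.IsInvertible L) :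
    FlatMod.IsFinLocFree L :=
  Ega2.QCohLocal.isFinLocFree_of_rank (Ega2.QCohLocal.isFinLocFreeOfRank_one_iff.2 hL)

theorem isFlatOver_of_isInvertible {X S : Scheme.{u}} (f : X ⟶ S) [Flat f] {L : X.Modules}
    (hL : PicF.IsInvertible L) : FlatMod.IsFlatOver f L := by
  intro x
  obtain ⟨U, hxU, ⟨e⟩⟩ := hL x
  have h1 : FlatMod.IsFlatOver (U.ι ≫ f) (Coh.structureModule (U : Scheme.{u})) :=
    PerfB.StructFlat.isFlatOver_structure _
  have h2 := Models2.FlatIso.isFlatOver_of_iso (U.ι ≫ f) e.symm h1 ⟨x, hxU⟩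
  exact (Ega3B.FlatRestrict.isFlatOverAt_restrict_iff_comp f U.ι L ⟨x, hxU⟩).1 h2

end K456.FlatInv
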