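import Groth.Agent.S2516
import Groth.Agent.S0558
import Groth.Agent.CurvesA.DimOne
import Mathlib.AlgebraicGeometry.Morphisms.SchemeTheoreticallyDominant
import Mathlib.AlgebraicGeometry.FunctionField
import Mathlib.AlgebraicGeometry.Morphisms.Flat
import Mathlib.AlgebraicGeometry.Morphisms.Finite
import Mathlib.RingTheory.Flat.TorsionFree
import Mathlib.RingTheory.DiscreteValuationRing.TFAE

/-!
# Flatness over a regular curve

* `flat_of_dominant`: a quasi-compact dominant morphism from an integral scheme to an integral scheme with regular
  local rings of dimension at most one is flat.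
* `surjective_of_finite`: a finite morphism from a scheme of positive dimension to an irreducible curve is surjective.
-/

set_option autoImplicit false
universe u
open CategoryTheory AlgebraicGeometry TopologicalSpace

namespace K456.FlatCurve

open Groth.Agent

/-- A ring map with injective underlying map from a PID to a domain is flat. -/
lemma flat_of_injective {R S : Type u} [CommRing R] [CommRing S] [IsDomain R] [IsDomain S]
    [IsPrincipalIdealRing R] (φ : R →+* S) (hφ : Function.Injective φ) : φ.Flat := by
  algebraize [φ]
  have : FaithfulSMul R S := (faithfulSMul_iff_algebraMap_injective R S).mpr hφ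
  change Module.Flat R S
  infer_instance

lemma isPrincipalIdealRing_of_regular (R : Type u) [CommRing R] [IsRegularLocalRing R]
    (h : ringKrullDim R ≤ 1) : IsPrincipalIdealRing R := by
  have hd : IsDomain R := S0558.result R
  have := S2516.valuationRing_of_regular R h
  infer_instance

/-- A quasi-compact dominant morphism from an integral scheme to an integral scheme with regular local rings of
dimension at most one is flat. -/
theorem flat_of_dominant {X Y : Scheme.{u}} [IsIntegral X] [IsIntegral Y] (f : X ⟶ Y) [QuasiCompact f]
    [IsDominant f] (hreg : ∀ y : Y, IsRegularLocalRing (Y.presheaf.stalk y))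
    (hdim : topologicalKrullDim Y ≤ 1) : Flat f := by
  have : IsSchemeTheoreticallyDominant f := .of_isDominant f
  apply Flat.of_stalkMap
  intro x
  obtain ⟨_, ⟨U, hU, rfl⟩, hxU, -⟩ := Y.isBasis_affineOpens.exists_subset_of_mem_open (Set.mem_univ (f x)) isOpen_univ
  have hinj : Function.Injective (f.stalkMap x) := by
    apply hU.stalkMap_injective f x hxU
    intro g hg
    have h3 : (X.presheaf.germ (f ⁻¹ᵁ U) x hxU) (f.app U g) = 0 := by
      rw [← hg]
      exact (Scheme.Hom.germ_stalkMap_apply f U x hxU g).symm
    have h4 : f.app U g = 0 :=
      (germ_injective_of_isIntegral X x hxU) (h3.trans (map_zero _).symm)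
    have h5 : g = 0 := (f.app_injective U) (h4.trans (map_zero _).symm)
    rw [h5, map_zero]
  have := hreg (f x)
  have h1 : IsDomain (Y.presheaf.stalk (f x)) := S0558.result _
  have := isPrincipalIdealRing_of_regular (Y.presheaf.stalk (f x))
    ((Groth.Agent.CurvesA.DimOne.ringKrullDim_stalk_le Y (f x)).trans hdim)
  exact flat_of_injective _ hinj

/-- A closed map from an irreducible space to an irreducible curve is surjective or has a one-point image. -/
theorem isDominant_of_nontrivial {X Y : Scheme.{u}} [IsIntegral X] [IsIntegral Y] (f : X ⟶ Y)
    (hdim : topologicalKrullDim Y ≤ 1) (hnc : (Set.range f.base).Nontrivial) : IsDominant f := by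
  refine ⟨?_⟩
  by_contra hcon
  have hirr : IsIrreducible (closure (Set.range f.base)) := by
    rw [← Set.image_univ]
    exact ((IrreducibleSpace.isIrreducible_univ X).image _ f.continuous.continuousOn).closure
  let Z : IrreducibleCloseds Y := ⟨closure (Set.range f.base), hirr, isClosed_closure⟩
  let W : IrreducibleCloseds Y := ⟨Set.univ, IrreducibleSpace.isIrreducible_univ Y, isClosed_univ⟩
  have hlt : Z < W := by
    refine lt_of_le_of_ne (fun x _ => Set.mem_univ x) ?_
    intro heq
    apply hcon
    have : (Z : Set Y) = (W : Set Y) := congrArg _ heq
    rw [DenseRange, dense_iff_closure_eq]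
    exact this
  have hs := Groth.Agent.CurvesA.DimOne.subsingleton_of_lt hdim hlt
  exact (hnc.mono subset_closure).not_subsingleton hs

end K456.FlatCurve
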