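import Groth.Agent.Surf.K456.Base
import Groth.Agent.Surf.K456.FlatCurve
import Groth.Agent.Models.H55.PtDeg
import Groth.Agent.Ega1.ReducedSub
import Groth.Agent.VarietyA.RegSmoothSch
import Groth.Agent.Models2.CodimStalk

/-!
# Fibres of a morphism to a curve as divisors
-/

set_option autoImplicit false
universe u

open CategoryTheory Limits AlgebraicGeometry TopologicalSpace Opposite IsLocalRing

namespace K456.FibDiv

open Groth.Agent Groth.Agent.Dix.InterNum Groth.Agent.Dix.InterSurf Groth.Agent.Dix.IdealModCartier
  K456.Base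

theorem isRegular_of_smooth {k : Type u} [Field k] {X : Scheme.{u}} (f : X ⟶ Spec (CommRingCat.of k))
    [Smooth f] (x : X) : IsRegularLocalRing (X.presheaf.stalk x) :=
  VarietyA.RegSmoothSch.isRegularLocalRing_stalk_of_mem_smoothLocus f x (by
    rw [Scheme.Hom.smoothLocus_eq_top f]; trivial)

section Curve

variable {C : Scheme.{u}} [IsIntegral C] [IsLocallyNoetherian C] (hdim : topologicalKrullDim C = 1)
  (hreg : ∀ c : C, IsRegularLocalRing (C.presheaf.stalk c)) (p : C) (hp : IsClosed ({p} : Set C))

include hdim hp in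
theorem ne_genericPoint : p ≠ genericPoint C := by
  intro h
  have h1 : (Set.univ : Set C) = {p} := by
    rw [← hp.closure_eq, h]
    exact (genericPoint_spec C).def.symm
  have : Subsingleton C := ⟨fun a b => by
    have ha : a ∈ ({p} : Set C) := h1 ▸ Set.mem_univ a
    have hb : b ∈ ({p} : Set C) := h1 ▸ Set.mem_univ b
    exact (Set.mem_singleton_iff.1 ha).trans (Set.mem_singleton_iff.1 hb).symm⟩
  have h2 : topologicalKrullDim C ≤ 0 := topologicalKrullDim_zero_of_discreteTopology C
  rw [hdim] at h2
  exact absurd h2 (by decide)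

include hdim hreg hp in
/-- The local ring of a regular curve at a closed point has a uniformizer. -/
theorem exists_uniformizer : ∃ ϖ : C.presheaf.stalk p,
    maximalIdeal (C.presheaf.stalk p) = Ideal.span {ϖ} ∧ ϖ ≠ 0 := by
  have := hreg p
  have := K456.FlatCurve.isPrincipalIdealRing_of_regular (C.presheaf.stalk p)
    ((Models2.CodimStalk.ringKrullDim_stalk_le C p).trans hdim.le)
  obtain ⟨ϖ, hϖ⟩ := (IsPrincipalIdealRing.principal (maximalIdeal (C.presheaf.stalk p))).principal
  refine ⟨ϖ, hϖ, ?_⟩
  rintro rfl
  have hmax : maximalIdeal (C.presheaf.stalk p) = ⊥ := by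
    rw [hϖ]; exact Ideal.span_singleton_eq_bot.2 rfl
  have hF : IsField (C.presheaf.stalk p) := IsLocalRing.isField_iff_maximalIdeal_eq.2 hmax
  have h0 : ringKrullDim (C.presheaf.stalk p) = 0 := ringKrullDim_eq_zero_of_isField hF
  rw [Models2.CodimStalk.coe_codim] at h0
  have h1 : Models2.CodimStalk.codim C p = 0 := by exact_mod_cast h0
  have hne := ne_genericPoint hdim p hp
  have h2 := Models2.CodimStalk.codim_lt C (genericPoint_specializes p) (fun h => hne
    (h.antisymm (genericPoint_specializes p)).eq)
  lia

include hdim hreg hp in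
/-- The ideal of a closed point on a regular curve is an effective Cartier divisor. -/
theorem isEff_point : BlowUp.IsEffCartierIdeal (C.fromSpecResidueField p).ker := by
  have : IsClosedImmersion (C.fromSpecResidueField p) :=
    isClosed_singleton_iff_isClosedImmersion.mp hp
  obtain ⟨ϖ, h1, h2⟩ := exists_uniformizer hdim hreg p hp
  exact Models.H55.PtDeg.isEff_ker_fromSpecResidueField p ϖ h1 h2

end Curve

theorem gp_eq {S C : Scheme.{u}} [IsIntegral S] [IsIntegral C] (f : S ⟶ C) [IsDominant f] :
    f (genericPoint S) = genericPoint C := by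
  have h := (genericPoint_spec S).image f.continuous
  rw [Set.image_univ, f.denseRange.closure_range] at h
  exact h.eq (genericPoint_spec C)

section Fibre

variable {S C : Scheme.{u}} (f : S ⟶ C) (p : C)

/-- The ideal of the fibre is the inverse image of the ideal of the point. -/
theorem ker_fiberι [IsClosedImmersion (C.fromSpecResidueField p)] :
    (f.fiberι p).ker = (C.fromSpecResidueField p).ker.comap f :=
  Scheme.IdealSheafData.ker_fst_of_isClosedImmersion _ _

theorem mem_support_fiber [IsClosedImmersion (C.fromSpecResidueField p)] (s : S) :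
    s ∈ (f.fiberι p).ker.support ↔ f s = p := by
  rw [ker_fiberι, Scheme.IdealSheafData.support_comap]
  change f s ∈ (C.fromSpecResidueField p).ker.support ↔ _
  have h1 : f s ∈ (C.fromSpecResidueField p).ker.support ↔
      f s ∈ Set.range (C.fromSpecResidueField p) := Dix.VertGeom.mem_support_ker_iff _ _
  rw [h1, Scheme.range_fromSpecResidueField]
  rfl

variable [IsIntegral S] [IsIntegral C] [IsLocallyNoetherian C] (hdim : topologicalKrullDim C = 1)
  (hreg : ∀ c : C, IsRegularLocalRing (C.presheaf.stalk c)) (hp : IsClosed ({p} : Set C))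
  [IsDominant f]

include hdim hreg hp in
theorem isEff_fiber : BlowUp.IsEffCartierIdeal (f.fiberι p).ker := by
  have : IsClosedImmersion (C.fromSpecResidueField p) :=
    isClosed_singleton_iff_isClosedImmersion.mp hp
  rw [ker_fiberι]
  refine isEff_comap_of_generic f (isEff_point hdim hreg p hp) ?_
  intro h
  have h1 : f (genericPoint S) ∈ Set.range (C.fromSpecResidueField p) :=
    (Dix.VertGeom.mem_support_ker_iff _ _).1 h
  rw [Scheme.range_fromSpecResidueField, Set.mem_singleton_iff] at h1
  refine ne_genericPoint hdim p hp (h1.symm.trans ?_)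
  exact gp_eq f

include hdim hreg hp in
theorem pullback_ideal_point :
    Nonempty ((Scheme.Modules.pullback f).obj (ClSub.idealMod (C.fromSpecResidueField p).ker) ≅
      ClSub.idealMod (f.fiberι p).ker) := by
  have : IsClosedImmersion (C.fromSpecResidueField p) :=
    isClosed_singleton_iff_isClosedImmersion.mp hp
  have h := isEff_fiber f p hdim hreg hp
  rw [ker_fiberι] at h ⊢
  exact pullback_idealMod f (isEff_point hdim hreg p hp) h

end Fibre

/-- Invertible modules on the spectrum of a residue field are trivial. -/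
theorem pic_residue {C : Scheme.{u}} (p : C) (c : Grpsch.PicGrp.Pic (Spec (C.residueField p))) : c = 1 := by
  have hs : Subsingleton (Spec (C.residueField p)) :=
    inferInstanceAs (Subsingleton (PrimeSpectrum (IsLocalRing.ResidueField (C.presheaf.stalk p))))
  refine Grpsch.PicGrp.eq_one_of_local (Classical.choice ⟨(⊥ : PrimeSpectrum
    (IsLocalRing.ResidueField (C.presheaf.stalk p)))⟩) (fun U hU => ?_) c
  rw [eq_top_iff]
  intro z _
  rw [Subsingleton.elim z]
  exact hU

section Deg

variable (k : Type u) [Field k] {S C : Scheme.{u}} [S.Over (Spec (CommRingCat.of k))]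
  [IsProper (S ↘ Spec (CommRingCat.of k))] (f : S ⟶ C) (p : C)
  [IsIntegral S] [IsIntegral C] [IsLocallyNoetherian C] (hdim : topologicalKrullDim C = 1)
  (hreg : ∀ c : C, IsRegularLocalRing (C.presheaf.stalk c)) (hp : IsClosed ({p} : Set C))
  [IsDominant f]
  (Γ : S.IdealSheafData) [hΓ : IsIntegral Γ.subscheme]
  (hΓd : topologicalKrullDim (Γ.support : Set S) = 1)

/-- An invertible module pulled back from `C` has degree zero on a curve contracted by `f`. -/
theorem dg_pullback_eq_zero {C : Scheme.{u}} (f : S ⟶ C) (p : C) (hp : IsClosed ({p} : Set C))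
    (h : f (Γ.subschemeι (genericPoint Γ.subscheme)) = p)
    {M : C.Modules} (hM : PicF.IsInvertible M) :
    dg k Γ ((Scheme.Modules.pullback f).obj M) = 0 := by
  have hcl : IsClosedImmersion (C.fromSpecResidueField p) :=
    isClosed_singleton_iff_isClosedImmersion.mp hp
  have hrange : Set.range (Γ.subschemeι ≫ f) ⊆ Set.range (C.fromSpecResidueField p) := by
    rw [Scheme.range_fromSpecResidueField]
    rintro _ ⟨z, rfl⟩
    have h1 : genericPoint Γ.subscheme ⤳ z := genericPoint_specializes z
    have h2 := h1.map (Γ.subschemeι ≫ f).continuous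
    have h3 : (Γ.subschemeι ≫ f) (genericPoint Γ.subscheme) = p := h
    rw [h3] at h2
    have h4 := h2.mem_closed hp (Set.mem_singleton p)
    exact h4
  obtain ⟨g, hg⟩ := Ega1.ReducedSub.exists_factor_of_range_subset (Γ.subschemeι ≫ f)
    (C.fromSpecResidueField p) hrange
  have htriv : Nonempty ((Scheme.Modules.pullback (C.fromSpecResidueField p)).obj M ≅
      Coh.structureModule _) := by
    have h5 := pic_residue p (Grpsch.PicGrp.mk _ (Fdesc.LocGen.isInvertible_pullback (C.fromSpecResidueField p) hM))
    exact (Grpsch.PicGrp.mk_eq_one_iff _).1 h5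
  obtain ⟨e⟩ := htriv
  letI := subOver k Γ
  rw [dg_eq_deg k Γ (Fdesc.LocGen.isInvertible_pullback f hM)]
  have e2 : (Scheme.Modules.pullback Γ.subschemeι).obj ((Scheme.Modules.pullback f).obj M) ≅
      Coh.structureModule Γ.subscheme :=
    (Scheme.Modules.pullbackComp Γ.subschemeι f).app M ≪≫
      (Scheme.Modules.pullbackCongr hg.symm).app M ≪≫
      ((Scheme.Modules.pullbackComp g (C.fromSpecResidueField p)).app M).symm ≪≫
      (Scheme.Modules.pullback g).mapIso e ≪≫ CurvesA.HHMap.pullbackUnit g
  rw [Curv2.deg, VarietyA.EulerAdd.euler_congr k e2, Nat.cast_one, one_mul, sub_self]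

include hdim hreg hp hΓd in
/-- The fibre has nonnegative degree on every curve. -/
theorem dg_fiber_le : dg k Γ (ClSub.idealMod (f.fiberι p).ker) ≤ 0 := by
  have hcl : IsClosedImmersion (C.fromSpecResidueField p) :=
    isClosed_singleton_iff_isClosedImmersion.mp hp
  by_cases h : Γ.subschemeι (genericPoint Γ.subscheme) ∈ (f.fiberι p).ker.support
  · rw [mem_support_fiber] at h
    obtain ⟨e⟩ := pullback_ideal_point f p hdim hreg hp
    rw [dg_congr k Γ e.symm]
    exact (dg_pullback_eq_zero k Γ f p hp h (isInvertible_idealMod (isEff_point hdim hreg p hp))).le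
  · exact dg_ideal_le k Γ hΓd (isEff_fiber f p hdim hreg hp) h

end Deg

end K456.FibDiv
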