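import Groth.Agent.VarietyB.HHPush
import Groth.Agent.VarietyB.ProjForm
import Groth.Agent.Dix.InterSurf
import Groth.Agent.Fga.PicMon
import Groth.Agent.Fga.IntAdd

/-!
# Degrees of invertible modules on integral curves inside a proper scheme

`dg k Γ L = χ(O_Γ ⊗ L) − χ(O_Γ)` is the degree of `L` on the curve `Γ`; it is additive in `L`,
nonnegative on effective divisors not containing `Γ`.
-/

set_option autoImplicit false
universe u

open CategoryTheory Limits AlgebraicGeometry TopologicalSpace Opposite

namespace K456.Base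

open Groth.Agent Groth.Agent.Dix.InterNum Groth.Agent.Dix.InterSurf Groth.Agent.Dix.IdealModCartier

theorem hasBases {X : Scheme.{u}} {L : X.Modules} (hL : PicF.IsInvertible L) :
    VarietyB.TensCoh.HasBases L :=
  VarietyB.TensCoh.HasBases.of_isFinLocFreeOfRank (Ega2.QCohLocal.isFinLocFreeOfRank_one_iff.mpr hL)

theorem isIso_unitToPush {X Y : Scheme.{u}} (f : X ⟶ Y) [IsIso f] : IsIso (ClSub.unitToPush f) := by
  rw [Scheme.Modules.Hom.isIso_iff_isIso_app]
  intro V
  have h1 : Function.Bijective (f.app V) := ConcreteCategory.bijective_of_isIso _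
  rw [ConcreteCategory.isIso_iff_bijective]
  exact h1

/-- `O_X / I_Z ≅ i_* O_Z`. -/
theorem quotIso {X Z : Scheme.{u}} (i : Z ⟶ X) [IsClosedImmersion i] :
    Nonempty (ClSub.quotMod i.ker ≅ (Scheme.Modules.pushforward i).obj (Coh.structureModule Z)) := by
  have h1 : i.toImage ≫ i.ker.subschemeι = i := i.toImage_imageι
  have h2 : IsIso i.toImage := inferInstance
  have h3 := isIso_unitToPush i.toImage
  exact ⟨(Scheme.Modules.pushforward i.ker.subschemeι).mapIso (asIso (ClSub.unitToPush i.toImage)) ≪≫
    (Scheme.Modules.pushforwardComp i.toImage i.ker.subschemeι).app _ ≪≫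
    (Scheme.Modules.pushforwardCongr h1).app _⟩

section Closed

variable (k : Type u) [Field k] {X Z : Scheme.{u}} [X.Over (Spec (CommRingCat.of k))]
  [Z.Over (Spec (CommRingCat.of k))] (i : Z ⟶ X) [IsClosedImmersion i]
  (hi : i ≫ (X ↘ Spec (CommRingCat.of k)) = Z ↘ Spec (CommRingCat.of k))

include hi

theorem euler_push_unit : Curv2.euler k X ((Scheme.Modules.pushforward i).obj (Coh.structureModule Z)) =
    Curv2.euler k Z (Coh.structureModule Z) :=
  VarietyB.HHPush.euler_push i k hi _ (CurvesB.UnitCoh.isCoh_structureModule Z).1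

theorem euler_push_tensor {L : X.Modules} (hL : PicF.IsInvertible L) :
    Curv2.euler k X (CohB1.tensorMod L
      ((Scheme.Modules.pushforward i).obj (Coh.structureModule Z))) =
    Curv2.euler k Z ((Scheme.Modules.pullback i).obj L) := by
  rw [VarietyA.EulerAdd.euler_congr k (VarietyB.ProjForm.projIsoUnit i (hasBases hL))]
  exact VarietyB.HHPush.euler_push i k hi _
    (S2329.isCoh_of_isInvertible (Fdesc.LocGen.isInvertible_pullback i hL)).1

theorem euler_push_tensor' {L : X.Modules} (hL : PicF.IsInvertible L) :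
    Curv2.euler k X (CohB1.tensorMod
      ((Scheme.Modules.pushforward i).obj (Coh.structureModule Z)) L) =
    Curv2.euler k Z ((Scheme.Modules.pullback i).obj L) := by
  rw [VarietyA.EulerAdd.euler_congr k (Ega2.Tens.swap _ _), euler_push_tensor k i hi hL]

theorem euler_quot : Curv2.euler k X (ClSub.quotMod i.ker) =
    Curv2.euler k Z (Coh.structureModule Z) := by
  obtain ⟨e⟩ := quotIso i
  rw [VarietyA.EulerAdd.euler_congr k e, euler_push_unit k i hi]

theorem euler_quot_tensor {L : X.Modules} (hL : PicF.IsInvertible L) :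
    Curv2.euler k X (CohB1.tensorMod L (ClSub.quotMod i.ker)) =
      Curv2.euler k Z ((Scheme.Modules.pullback i).obj L) := by
  obtain ⟨e⟩ := quotIso i
  rw [VarietyA.EulerAdd.euler_congr k (Ega2.Tens.mapTIso (Iso.refl L) e), euler_push_tensor k i hi hL]

end Closed

section Curve

variable (k : Type u) [Field k] {X : Scheme.{u}} [X.Over (Spec (CommRingCat.of k))]

/-- The degree of `L` on the closed subscheme defined by `Γ`: `χ(O_Γ ⊗ L) − χ(O_Γ)`. -/
noncomputable def dg (Γ : X.IdealSheafData) (L : X.Modules) : ℤ :=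
  Curv2.euler k X (CohB1.tensorMod (ClSub.quotMod Γ) L) - Curv2.euler k X (ClSub.quotMod Γ)

/-- The structure of a `k`-scheme on a closed subscheme. -/
noncomputable abbrev subOver (Γ : X.IdealSheafData) : Γ.subscheme.Over (Spec (CommRingCat.of k)) :=
  ⟨Γ.subschemeι ≫ (X ↘ Spec (CommRingCat.of k))⟩

theorem krullDim_subscheme (Γ : X.IdealSheafData) :
    topologicalKrullDim Γ.subscheme = topologicalKrullDim (Γ.support : Set X) := by
  rw [← Scheme.IdealSheafData.range_subschemeι]
  have e := Γ.subschemeι.isClosedEmbedding.toHomeomorph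
  exact IsHomeomorph.topologicalKrullDim_eq e e.isHomeomorph

theorem isProper_sub [IsProper (X ↘ Spec (CommRingCat.of k))] (Γ : X.IdealSheafData) :
    letI := subOver k Γ
    IsProper (Γ.subscheme ↘ Spec (CommRingCat.of k)) :=
  inferInstanceAs (IsProper (Γ.subschemeι ≫ (X ↘ Spec (CommRingCat.of k))))

/-- `dg` is the degree of the restriction. -/
theorem dg_eq_deg (Γ : X.IdealSheafData) {L : X.Modules} (hL : PicF.IsInvertible L) :
    letI := subOver k Γ
    dg k Γ L = Curv2.deg k Γ.subscheme ((Scheme.Modules.pullback Γ.subschemeι).obj L) 1 := by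
  letI := subOver k Γ
  rw [dg, Curv2.deg, euler_push_tensor' k Γ.subschemeι rfl hL]
  have := euler_push_unit k Γ.subschemeι rfl
  rw [this, Nat.cast_one, one_mul]

theorem dg_congr (Γ : X.IdealSheafData) {L M : X.Modules} (e : L ≅ M) : dg k Γ L = dg k Γ M := by
  rw [dg, dg, VarietyA.EulerAdd.euler_congr k (Ega2.Tens.mapTIso (Iso.refl _) e)]

theorem dg_one (Γ : X.IdealSheafData) : dg k Γ (Coh.structureModule X) = 0 := by
  rw [dg, VarietyA.EulerAdd.euler_congr k (Ega2.Tens.runit _), sub_self]

variable [IsProper (X ↘ Spec (CommRingCat.of k))] (Γ : X.IdealSheafData)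
  [hΓ : IsIntegral Γ.subscheme] (hdim : topologicalKrullDim (Γ.support : Set X) = 1)

include hdim

theorem dg_tensor {L M : X.Modules} (hL : PicF.IsInvertible L) (hM : PicF.IsInvertible M) :
    dg k Γ (CohB1.tensorMod L M) = dg k Γ L + dg k Γ M := by
  let _ := subOver k Γ
  have := isProper_sub k Γ
  have hd : topologicalKrullDim Γ.subscheme = 1 := (krullDim_subscheme Γ).trans hdim
  rw [dg_eq_deg k Γ (Fdesc.LocGen.isInvertible_tensorMod hL hM), dg_eq_deg k Γ hL, dg_eq_deg k Γ hM,
    deg_congr k _ hd (@asIso _ _ _ _ _ (Grpsch.PicGrp.isIso_pullTensor Γ.subschemeι hL hM)),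
    deg_tensor k _ hd (Fdesc.LocGen.isInvertible_pullback _ hL) (Fdesc.LocGen.isInvertible_pullback _ hM)]

theorem dg_inverse {L M : X.Modules} (hL : PicF.IsInvertible L) (hM : PicF.IsInvertible M)
    (h : Nonempty (CohB1.tensorMod L M ≅ Coh.structureModule X)) : dg k Γ L = - dg k Γ M := by
  obtain ⟨e⟩ := h
  have := dg_tensor k Γ hdim hL hM
  rw [dg_congr k Γ e, dg_one] at this
  linarith

theorem dg_tensorPow {L : X.Modules} (hL : PicF.IsInvertible L) (n : ℕ) :
    dg k Γ (CohB1.tensorPow L n) = n * dg k Γ L := by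
  induction n with
  | zero => rw [Nat.cast_zero, zero_mul]; exact dg_one k Γ
  | succ n ih =>
    change dg k Γ (CohB1.tensorMod (CohB1.tensorPow L n) L) = _
    rw [dg_tensor k Γ hdim (Fdesc.LocGen.isInvertible_tensorPow hL n) hL, ih]
    push_cast
    ring

/-- The degree of the ideal of an effective divisor not containing the curve. -/
theorem dg_ideal_le {D : X.IdealSheafData} (hD : BlowUp.IsEffCartierIdeal D)
    (h : Γ.subschemeι (genericPoint Γ.subscheme) ∉ D.support) :
    dg k Γ (ClSub.idealMod D) ≤ 0 := by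
  let _ := subOver k Γ
  have := isProper_sub k Γ
  have hd : topologicalKrullDim Γ.subscheme = 1 := (krullDim_subscheme Γ).trans hdim
  rw [dg_eq_deg k Γ (isInvertible_idealMod hD)]
  have hD' := isEff_comap_of_generic Γ.subschemeι hD h
  obtain ⟨e⟩ := pullback_idealMod Γ.subschemeι hD hD'
  obtain ⟨N, -, ⟨f⟩⟩ := Grpsch.PicGrp.exists_inverse (isInvertible_idealMod hD')
  have hinv : ClSub.IsInverseOf N (ClSub.idealMod (D.comap Γ.subschemeι)) :=
    ⟨Ega2.Tens.swap _ _ ≪≫ f⟩
  have h1 := deg_of_effCartier k _ hd _ hD' N hinv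
  have h2 := deg_inverse k _ hd hinv
  rw [deg_congr k _ hd e]
  have : (0 : ℤ) ≤ Module.finrank k (Coh.HH Γ.subscheme (ClSub.quotMod (D.comap Γ.subschemeι)) 0) :=
    Nat.cast_nonneg _
  linarith

end Curve

/-- the support of an integral closed subscheme is the closure of its generic point -/
theorem support_subset {X : Scheme.{u}} (Γ : X.IdealSheafData) [IsIntegral Γ.subscheme] (T : Closeds X)
    (h : Γ.subschemeι (genericPoint Γ.subscheme) ∈ T) : (Γ.support : Set X) ⊆ (T : Set X) := by
  rw [← Scheme.IdealSheafData.range_subschemeι]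
  rintro _ ⟨z, rfl⟩
  exact ((genericPoint_specializes z).map Γ.subschemeι.continuous).mem_closed T.isClosed h

/-- A curve has infinitely many points. -/
theorem not_finite_support (k : Type u) [Field k] {X : Scheme.{u}} [X.Over (Spec (CommRingCat.of k))]
    [LocallyOfFiniteType (X ↘ Spec (CommRingCat.of k))] (Γ : X.IdealSheafData)
    (hdim : topologicalKrullDim (Γ.support : Set X) = 1) : ¬ (Γ.support : Set X).Finite := by
  intro hfin
  have h1 : Finite Γ.subscheme := by
    rw [← Scheme.IdealSheafData.range_subschemeι, ← Set.image_univ] at hfin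
    exact Set.finite_univ_iff.1 (hfin.of_finite_image Γ.subschemeι.injective.injOn)
  have h2 : JacobsonSpace Γ.subscheme :=
    LocallyOfFiniteType.jacobsonSpace (Γ.subschemeι ≫ (X ↘ Spec (CommRingCat.of k)))
  have h3 : DiscreteTopology Γ.subscheme := inferInstance
  have h4 := topologicalKrullDim_zero_of_discreteTopology Γ.subscheme
  rw [krullDim_subscheme Γ, hdim] at h4
  exact absurd h4 (by decide)


end K456.Base
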