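import Groth.Agent.S1525
import Groth.Agent.S0042
import Groth.Agent.S0036
import Groth.Agent.Fga.PosZero
import Groth.Agent.Fga.EulerLEAdd
import Groth.Agent.Ega4B.RpushCompare
import Groth.Agent.S0484
import Groth.Agent.Localalg.TopNonvanDim
import Groth.Agent.Ega1.AnnIdeal
import Groth.Agent.CalgA.SerreLocal
import Groth.Agent.CurvesB.UnitCoh
import Groth.Agent.Fga.DimLt
import Groth.Agent.Models2.CodimStalk
import Groth.Prelude.Def_ClSub2
import Groth.Prelude.Def_Pi1

/-!
# Resolutions of normal surfaces: the higher direct images of the structure sheaf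
-/

set_option autoImplicit false
universe u

open CategoryTheory Limits AlgebraicGeometry TopologicalSpace Opposite

namespace K456.Resol

open Groth.Agent

theorem hasInjectiveResolutions (X : Scheme.{u}) : HasInjectiveResolutions X.Modules := by
  have : IsGrothendieckAbelian.{u} X.Modules :=
    Groth.Agent.S0484.result (Opens.grothendieckTopology X) X.ringCatSheaf
  have : EnoughInjectives X.Modules := inferInstance
  infer_instance

/-- A coherent module vanishing at all points of codimension at most one. -/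
theorem krullDim_support {Z : Scheme.{u}} [IsLocallyNoetherian Z] {d : ℕ}
    (hd : topologicalKrullDim Z = ((d + 1 : ℕ) : WithBot ℕ∞)) (R : Z.Modules) (hR : Coh.IsCoh R)
    (h : ∀ z : Z, ringKrullDim (Z.presheaf.stalk z) ≤ 1 → z ∉ CohB1.support R) :
    IsZero R ∨ ∃ d' : ℕ, d' < d ∧ topologicalKrullDim (CohB1.support R) ≤ (d' : WithBot ℕ∞) := by
  let J := Ega1.AnnIdeal.annIdeal R hR.1 hR.2
  have hJs : (J.support : Set Z) = CohB1.support R := Ega1.AnnIdeal.support_annIdeal R hR.1 hR.2
  let i := J.subschemeι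
  have hran : Set.range i = CohB1.support R := by
    rw [← hJs]; exact Scheme.IdealSheafData.range_subschemeι J
  have hi : ∀ y : J.subscheme, ¬ ringKrullDim (Z.presheaf.stalk (i y)) ≤ 1 := by
    intro y hy
    refine h _ hy ?_
    rw [← hran]
    exact Set.mem_range_self y
  rcases Localalg.TopNonvanDim.dim_lt i hd hi with hemp | ⟨d', hd', hdim⟩
  · left
    have h0 : CohB1.support R = ∅ := by
      rw [← hran, Set.range_eq_empty_iff]
      exact hemp
    exact CohqB.DevSupport.isZero_of_support_eq_empty h0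
  · right
    refine ⟨d', hd', ?_⟩
    rw [← hran]
    have e := i.isClosedEmbedding.toHomeomorph
    rwa [← IsHomeomorph.topologicalKrullDim_eq e e.isHomeomorph]

/-- Points with local ring of dimension at most one of a normal scheme are regular. -/
theorem isRegular_of_le_one {X : Scheme.{u}} [IsLocallyNoetherian X] (hnorm : Pi1.IsNormalScheme X)
    (x : X) (hx : ringKrullDim (X.presheaf.stalk x) ≤ 1) : IsRegularLocalRing (X.presheaf.stalk x) := by
  obtain ⟨h1, h2⟩ := hnorm x
  exact CalgA.SerreLocal.isRegularLocalRing_of_isIntegrallyClosed hx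

/-- Points with local ring of dimension at least two of a surface are closed. -/
theorem isClosed_of_two {X : Scheme.{u}} [IsLocallyNoetherian X] (hd : topologicalKrullDim X = 2)
    (x : X) (hx : ¬ ringKrullDim (X.presheaf.stalk x) ≤ 1) : IsClosed ({x} : Set X) := by
  rw [← closure_subset_iff_isClosed]
  intro y hy
  have hxy : x ⤳ y := specializes_iff_mem_closure.2 hy
  by_contra hne
  have hyx : ¬ y ⤳ x := fun h => hne (h.antisymm hxy).eq
  have h1 := Models2.CodimStalk.codim_lt X hxy hyx
  have h2 : Models2.CodimStalk.codim X y ≤ 2 := Models2.CodimStalk.codim_le X (d := 2) hd y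
  apply hx
  rw [Models2.CodimStalk.coe_codim]
  have : Models2.CodimStalk.codim X x ≤ 1 := by lia
  exact_mod_cast this

section Res

variable {X S : Scheme.{u}} (π : S ⟶ X) {U : X.Opens}

theorem eq_of_isIso_restrict (h : IsIso (π ∣_ U)) {a b : S} (ha : π a ∈ U) (hab : π a = π b) :
    a = b := by
  have hb : π b ∈ U := hab ▸ ha
  let a' : (π ⁻¹ᵁ U : Scheme.{u}) := ⟨a, ha⟩
  let b' : (π ⁻¹ᵁ U : Scheme.{u}) := ⟨b, hb⟩
  have e : ∀ c : (π ⁻¹ᵁ U : Scheme.{u}), U.ι ((π ∣_ U) c) = π ((π ⁻¹ᵁ U).ι c) := fun c => by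
    rw [← Scheme.Hom.comp_apply, ← Scheme.Hom.comp_apply, morphismRestrict_ι]
  have h1 : (π ∣_ U) a' = (π ∣_ U) b' := by
    apply U.ι.injective
    rw [e, e]
    exact hab
  have h2 : a' = b' := (π ∣_ U).injective h1
  exact congrArg (π ⁻¹ᵁ U).ι h2

theorem exists_of_isIso_restrict (h : IsIso (π ∣_ U)) {x : X} (hx : x ∈ U) : ∃ a : S, π a = x := by
  obtain ⟨c, hc⟩ := (π ∣_ U).surjective ⟨x, hx⟩
  refine ⟨(π ⁻¹ᵁ U).ι c, ?_⟩
  rw [← Scheme.Hom.comp_apply, ← morphismRestrict_ι, Scheme.Hom.comp_apply, hc]
  rfl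

theorem fiber_le_zero (h : IsIso (π ∣_ U)) {x : X} (hx : x ∈ U) :
    topologicalKrullDim (π.fiber x) ≤ ((0 : ℕ) : WithBot ℕ∞) := by
  rw [IsHomeomorph.topologicalKrullDim_eq _ (π.fiberHomeo x).isHomeomorph]
  have : Subsingleton (π ⁻¹' {x}) := ⟨fun a b => Subtype.ext
    (eq_of_isIso_restrict π h (by rw [show π a.1 = x from a.2]; exact hx)
      ((show π a.1 = x from a.2).trans (show π b.1 = x from b.2).symm))⟩
  exact topologicalKrullDim_zero_of_discreteTopology _

theorem fiber_le_one [IsIntegral S] (hdimS : topologicalKrullDim S = 2) {x : X}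
    (hx : IsClosed ({x} : Set X)) {s : S} (hs : π s ≠ x) :
    topologicalKrullDim (π.fiber x) ≤ ((1 : ℕ) : WithBot ℕ∞) := by
  rw [IsHomeomorph.topologicalKrullDim_eq _ (π.fiberHomeo x).isHomeomorph]
  have h1 : topologicalKrullDim (π ⁻¹' {x}) < ((2 : ℕ) : WithBot ℕ∞) := by
    refine Fga.DimLt.topologicalKrullDim_lt (A := Set.univ) ?_ (hx.preimage π.continuous)
      (Set.subset_univ _) ?_ ?_
    · exact IrreducibleSpace.isIrreducible_univ S
    · intro h
      exact hs (h.symm ▸ Set.mem_univ s : s ∈ π ⁻¹' {x})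
    · rw [IsHomeomorph.topologicalKrullDim_eq _ (Homeomorph.Set.univ S).isHomeomorph, hdimS]
      exact_mod_cast Nat.lt_succ_self 2
  exact Fga.IntNum0.withBot_le_of_lt_succ h1

end Res

/-- The Leray formula for the Euler characteristic of the structure sheaf of a resolution. -/
theorem euler_leray (k : Type u) [Field k]
    (X : Scheme.{u}) [X.Over (Spec (CommRingCat.of k))] [IsProper (X ↘ (Spec (CommRingCat.of k)))]
    (S : Scheme.{u}) [S.Over (Spec (CommRingCat.of k))] (π : S ⟶ X)
    (hπ : π ≫ (X ↘ (Spec (CommRingCat.of k))) = (S ↘ (Spec (CommRingCat.of k)))) [IsProper π]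
    [HasInjectiveResolutions S.Modules]
    (hO : IsIso (ClSub.unitToPush π))
    (h2 : ∀ i, 2 ≤ i → IsZero ((Coh.Rpush π i).obj (Coh.structureModule S))) :
    Curv2.euler k S (Coh.structureModule S) = Curv2.euler k X (Coh.structureModule X) -
      Curv2.euler k X ((Coh.Rpush π 1).obj (Coh.structureModule S)) := by
  have : IsProper (S ↘ (Spec (CommRingCat.of k))) := by rw [← hπ]; infer_instance
  have hcoh : Coh.IsCoh (Coh.structureModule S) := CurvesB.UnitCoh.isCoh_structureModule S
  rw [S1525.result k X S π hπ (Coh.structureModule S) hcoh]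
  have h0 : ∀ i, 2 ≤ i → Curv2.euler k X ((Coh.Rpush π i).obj (Coh.structureModule S)) = 0 :=
    fun i hi => VarietyA.LerayEuler.euler_eq_zero_of_isZero k X (h2 i hi)
  rw [finsum_eq_sum_of_support_subset (s := Finset.range 2)]
  · rw [Finset.sum_range_succ, Finset.sum_range_one, pow_zero, one_mul, pow_one]
    have e : (Coh.Rpush π 0).obj (Coh.structureModule S) ≅ Coh.structureModule X :=
      (Scheme.Modules.pushforward π).rightDerivedZeroIsoSelf.app (Coh.structureModule S) ≪≫
        (asIso (ClSub.unitToPush π)).symm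
    rw [VarietyA.EulerAdd.euler_congr k e]
    ring
  · intro i hi
    rw [Function.mem_support] at hi
    rw [Finset.coe_range, Set.mem_Iio]
    by_contra hlt
    exact hi (by rw [h0 i (by lia), mul_zero])

section Main

variable (k : Type u) [Field k]
    (X : Scheme.{u}) [X.Over (Spec (CommRingCat.of k))] [IsProper (X ↘ (Spec (CommRingCat.of k)))]
    [IsIntegral X] (hdimX : topologicalKrullDim X = 2) (hnorm : Pi1.IsNormalScheme X)
    (S : Scheme.{u}) (π : S ⟶ X) [IsProper π] [IsIntegral S] (hdimS : topologicalKrullDim S = 2)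
    (U : X.Opens) (hU : ∀ x : X, x ∈ U ↔ IsRegularLocalRing (X.presheaf.stalk x))
    (hiso : IsIso (π ∣_ U))

include k hdimX hnorm hdimS hU hiso

/-- The fibres of a resolution of a normal surface have dimension at most one, and those over the
regular points are points. -/
theorem rpush_facts (x : X) :
    (x ∈ U → topologicalKrullDim (π.fiber x) ≤ ((0 : ℕ) : WithBot ℕ∞)) ∧
      topologicalKrullDim (π.fiber x) ≤ ((1 : ℕ) : WithBot ℕ∞) := by
  have : IsLocallyNoetherian X :=
    LocallyOfFiniteType.isLocallyNoetherian (X ↘ (Spec (CommRingCat.of k)))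
  refine ⟨fun hx => fiber_le_zero π hiso hx, ?_⟩
  by_cases hx : x ∈ U
  · exact (fiber_le_zero π hiso hx).trans (by exact_mod_cast Nat.zero_le 1)
  · have h1 : ¬ ringKrullDim (X.presheaf.stalk x) ≤ 1 := fun h =>
      hx ((hU x).2 (isRegular_of_le_one hnorm x h))
    have hη : genericPoint X ∈ U := by
      rw [hU]
      refine isRegular_of_le_one hnorm _ ?_
      have : IsField (X.presheaf.stalk (genericPoint X)) := Field.toIsField X.functionField
      rw [ringKrullDim_eq_zero_of_isField this]
      exact zero_le_one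
    obtain ⟨s, hs⟩ := exists_of_isIso_restrict π hiso hη
    refine fiber_le_one π hdimS (isClosed_of_two hdimX x h1) (s := s) ?_
    intro h
    apply hx
    rw [← h, hs]
    exact hη

/-- The support of the higher direct images of the structure sheaf. -/
theorem not_mem_support [HasInjectiveResolutions S.Modules] (x : X) (i : ℕ)
    (hi : 2 ≤ i ∨ (1 ≤ i ∧ x ∈ U)) :
    x ∉ CohB1.support ((Coh.Rpush π i).obj (Coh.structureModule S)) := by
  have : IsLocallyNoetherian X :=
    LocallyOfFiniteType.isLocallyNoetherian (X ↘ (Spec (CommRingCat.of k)))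
  have hcoh : Coh.IsCoh (Coh.structureModule S) := CurvesB.UnitCoh.isCoh_structureModule S
  have hz : Limits.IsZero (TopCat.Presheaf.stalk
      ((Coh.RpushAb π i).obj (Coh.toAb (Coh.structureModule S))).obj x) := by
    obtain ⟨h0, h1⟩ := rpush_facts k X hdimX hnorm S π hdimS U hU hiso x
    rcases hi with hi | ⟨hi, hx⟩
    · exact S0042.result π x 1 h1 _ hcoh i (by lia)
    · exact S0042.result π x 0 (h0 hx) _ hcoh i (by lia)
  obtain ⟨e⟩ := Ega4B.RpushCompare.rpush_iso_rpushAb π (Coh.structureModule S) i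
  rw [CohqB.DevSupport.not_mem_support_iff_isZero]
  refine hz.of_iso ?_
  exact (TopCat.Sheaf.forget _ _ ⋙ TopCat.Presheaf.stalkFunctor _ x).mapIso e

/-- Laufer/Artin: a resolution of a normal surface has `R¹π_*O_S = 0` iff `χ(O_S) = χ(O_X)`. -/
theorem main [IsAlgClosed k] [HasInjectiveResolutions S.Modules]
    (hO : IsIso (ClSub.unitToPush π)) :
    letI : S.Over (Spec (CommRingCat.of k)) := ⟨π ≫ (X ↘ (Spec (CommRingCat.of k)))⟩
    IsZero ((Coh.RpushAb π 1).obj (Coh.toAb (Coh.structureModule S))) ↔
      Curv2.euler k S (Coh.structureModule S) = Curv2.euler k X (Coh.structureModule X) := by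
  letI : S.Over (Spec (CommRingCat.of k)) := ⟨π ≫ (X ↘ (Spec (CommRingCat.of k)))⟩
  have : IsLocallyNoetherian X :=
    LocallyOfFiniteType.isLocallyNoetherian (X ↘ (Spec (CommRingCat.of k)))
  have : CompactSpace X :=
    (quasiCompact_iff_compactSpace (X ↘ (Spec (CommRingCat.of k)))).mp inferInstance
  have : IsNoetherian X := {}
  have hcoh : Coh.IsCoh (Coh.structureModule S) := CurvesB.UnitCoh.isCoh_structureModule S
  have hR : Coh.IsCoh ((Coh.Rpush π 1).obj (Coh.structureModule S)) := S0036.result π _ hcoh 1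
  rw [euler_leray k X S π rfl hO (fun i hi =>
    CohqB.DevSupport.isZero_of_support_eq_empty (Set.eq_empty_of_forall_notMem fun x =>
      not_mem_support k X hdimX hnorm S π hdimS U hU hiso x i (Or.inl hi))),
    ← Ega4B.RpushCompare.isZero_rpush_iff]
  constructor
  · intro h
    rw [VarietyA.LerayEuler.euler_eq_zero_of_isZero k X h, sub_zero]
  · intro h
    rcases krullDim_support (d := 1) hdimX _ hR (fun z hz =>
      not_mem_support k X hdimX hnorm S π hdimS U hU hiso z 1
        (Or.inr ⟨le_rfl, (hU z).2 (isRegular_of_le_one hnorm z hz)⟩)) with h1 | ⟨d', hd', hdim⟩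
    · exact h1
    · obtain rfl : d' = 0 := by lia
      by_contra hne
      have hne' : (CohB1.support ((Coh.Rpush π 1).obj (Coh.structureModule S))).Nonempty := by
        rw [Set.nonempty_iff_ne_empty]
        exact fun he => hne (CohqB.DevSupport.isZero_of_support_eq_empty he)
      have : Nonempty (CohB1.support ((Coh.Rpush π 1).obj (Coh.structureModule S))) :=
        hne'.to_subtype
      have h0 := Fga.IntNum0.topologicalKrullDim_nonneg
        (CohB1.support ((Coh.Rpush π 1).obj (Coh.structureModule S)))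
      have hpos := Fga.PosZero.euler_pos k X 2 _ hR (le_antisymm (by simpa using hdim) h0)
      rw [Fga.EulerLEAdd.eulerCharLE_eq_euler k X 2 (by rw [hdimX]; rfl)] at hpos
      lia

end Main

end K456.Resol
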