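import Groth.Agent.S7802
import Groth.Agent.S1535
import Groth.Agent.Surf.K464.Base

/-!
# A smooth proper surface has an ample module (K456)
-/

set_option autoImplicit false
universe u
open CategoryTheory CategoryTheory.Limits AlgebraicGeometry Opposite TopologicalSpace

namespace K456.AmpleEx

open Groth.Agent.Grpsch.PicGrp Groth.Agent K464.Base

theorem exists_ample_of_regular (k : Type u) [Field k] (X : Scheme.{u}) [X.Over (Spec (CommRingCat.of k))]
    [IsProper (X ↘ Spec (CommRingCat.of k))] [IsIntegral X] (hdim : topologicalKrullDim X = 2)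
    (hreg : ∀ x : X, IsRegularLocalRing (X.presheaf.stalk x)) : ∃ H : X.Modules, CohB1.IsAmple H := by
  obtain ⟨x⟩ := (inferInstance : Nonempty X)
  obtain ⟨U, hU, hxU, -⟩ := exists_isAffineOpen_mem_and_subset (U := (⊤ : X.Opens)) (x := x) trivial
  obtain ⟨I, hI, -, h⟩ := S7802.result k X (X ↘ Spec (CommRingCat.of k)) hdim hreg ⟨U, hU⟩ ⟨x, hxU⟩
  obtain ⟨L, hL, hLI⟩ := exists_mk (ic I hI)⁻¹
  refine ⟨L, h L hL ?_⟩
  have h1 : mk L hL * ic I hI = 1 := by rw [← hLI, inv_mul_cancel]
  unfold ic at h1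
  rw [mk_mul_mk, mk_eq_one_iff] at h1
  exact h1

theorem exists_ample (k : Type u) [Field k] (X : Scheme.{u}) [X.Over (Spec (CommRingCat.of k))]
    [IsProper (X ↘ Spec (CommRingCat.of k))] [Smooth (X ↘ Spec (CommRingCat.of k))] [IsIntegral X]
    (hdim : topologicalKrullDim X = 2) : ∃ H : X.Modules, CohB1.IsAmple H :=
  exists_ample_of_regular k X hdim fun x => S1535.result k X x

end K456.AmpleEx
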