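import Groth.Agent.Surf.K456.Base
import Groth.Agent.Fga.AltSum

/-!
# Intersection numbers of two invertible modules on a proper scheme of dimension at most two
-/

set_option autoImplicit false
universe u

open CategoryTheory Limits AlgebraicGeometry TopologicalSpace Opposite

namespace K456.IntTwo

open Groth.Agent Groth.Agent.Fga.PicMon Groth.Agent.Fga.AltSum Groth.Agent.Dix.InterNum
  Groth.Agent.Dix.InterSurf Groth.Agent.Dix.IdealModCartier K456.Base

theorem dSum_two {M : Type*} [CommMonoid M] (ψ : M → ℤ) (x y : M) :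
    dSum ψ ![x, y] = ψ 1 - ψ x - ψ y + ψ (x * y) := by
  have h1 : (![x, y] : Fin 2 → M) = Fin.cons x (Fin.cons y Fin.elim0 : Fin 1 → M) := by
    funext i
    fin_cases i <;> rfl
  rw [h1, dSum_cons, dSum_cons, dSum_cons]
  simp only [dSum_zero, mul_one]
  ring

variable (k : Type u) [Field k] {S : Scheme.{u}} [S.Over (Spec (CommRingCat.of k))]
    [IsProper (S ↘ Spec (CommRingCat.of k))] (hdim : topologicalKrullDim S ≤ (2 : ℕ))

include hdim

/-- `(I · L) = χ(O) − χ(I) − χ(L) + χ(I ⊗ L)`. -/
theorem intNum_two (I L : S.Modules) :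
    FGA.intNum k S 2 ![I, L] (Coh.structureModule S) =
      Curv2.euler k S (Coh.structureModule S) - Curv2.euler k S I - Curv2.euler k S L +
        Curv2.euler k S (CohB1.tensorMod I L) := by
  have h2 : (fun i => mc ((![I, L] : Fin 2 → S.Modules) i)) = ![mc I, mc L] := by
    funext i
    fin_cases i <;> rfl
  have key : ∀ M : S.Modules, chiCl k S 2 (Coh.structureModule S) (mc M) = Curv2.euler k S M := by
    intro M
    rw [chiCl_mc, euler_iso k S (Ega2.Tens.runit M) 2, Fga.IntAdd.eulerCharLE_eq k S 2 hdim]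
  rw [intNum_eq_dSum, h2, dSum_two, ← mc_one, key, key, key, ← mc_tensor, key]

theorem intNum_comm (I L : S.Modules) :
    FGA.intNum k S 2 ![I, L] (Coh.structureModule S) =
      FGA.intNum k S 2 ![L, I] (Coh.structureModule S) := by
  rw [intNum_two k hdim, intNum_two k hdim, VarietyA.EulerAdd.euler_congr k (Ega2.Tens.swap I L)]
  ring

theorem intNum_congr_two {I I' L L' : S.Modules} (e : I ≅ I') (e' : L ≅ L') :
    FGA.intNum k S 2 ![I, L] (Coh.structureModule S) =
      FGA.intNum k S 2 ![I', L'] (Coh.structureModule S) := by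
  rw [intNum_two k hdim, intNum_two k hdim, VarietyA.EulerAdd.euler_congr k e,
    VarietyA.EulerAdd.euler_congr k e', VarietyA.EulerAdd.euler_congr k (Ega2.Tens.mapTIso e e')]

/-- The intersection number with a closed subscheme. -/
theorem intNum_ker {C : Scheme.{u}} [C.Over (Spec (CommRingCat.of k))] (i : C ⟶ S) [IsClosedImmersion i]
    (hi : i ≫ (S ↘ Spec (CommRingCat.of k)) = C ↘ Spec (CommRingCat.of k))
    {L : S.Modules} (hL : PicF.IsInvertible L) :
    FGA.intNum k S 2 ![ClSub.idealMod i.ker, L] (Coh.structureModule S) =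
      - Curv2.deg k C ((Scheme.Modules.pullback i).obj L) 1 := by
  have : IsLocallyNoetherian S :=
    LocallyOfFiniteType.isLocallyNoetherian (S ↘ (Spec (CommRingCat.of k)))
  rw [intNum_two k hdim]
  have hseq := VarietyB.DegCartier.idealSeq_shortExact i.ker
  have hI := VarietyB.DegCartier.isCoh_idealMod i.ker
  have hQ := VarietyB.DegCartier.isCoh_quotMod i.ker
  have hO : Coh.IsCoh (Coh.structureModule S) := CurvesB.UnitCoh.isCoh_structureModule S
  have h1 := Groth.Agent.Fga.IntAdd.isAdd_euler k S 2 hdim _ hseq hI hO hQ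
  have h2 := Groth.Agent.Fga.IntAdd.isAdd_tensor S (Groth.Agent.Fga.IntAdd.isAdd_euler k S 2 hdim) hL _
    hseq hI hO hQ
  simp only [Fga.IntAdd.eulerCharLE_eq k S 2 hdim] at h1 h2
  change Curv2.euler k S (Coh.structureModule S) = Curv2.euler k S (ClSub.idealMod i.ker) +
    Curv2.euler k S (ClSub.quotMod i.ker) at h1
  change Curv2.euler k S (CohB1.tensorMod L (Coh.structureModule S)) =
    Curv2.euler k S (CohB1.tensorMod L (ClSub.idealMod i.ker)) +
    Curv2.euler k S (CohB1.tensorMod L (ClSub.quotMod i.ker)) at h2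
  rw [euler_quot k i hi] at h1
  rw [euler_quot_tensor k i hi hL, VarietyA.EulerAdd.euler_congr k (Ega2.Tens.runit L),
    VarietyA.EulerAdd.euler_congr k (Ega2.Tens.swap L (ClSub.idealMod i.ker))] at h2
  rw [Curv2.deg, Nat.cast_one, one_mul]
  linarith

end K456.IntTwo
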