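import Groth.Agent.VarietyA.LerayEuler2

/-!
# The Leray spectral sequence over a curve, numerically

`f : Y ⟶ X` with `H^{≥ 2}(X, -) = 0`: `h^{n+1}(Y, G) = h⁰(X, R^{n+1} f_* G) + h¹(X, R^n f_* G)`.
-/

set_option autoImplicit false
universe u v w

open CategoryTheory Limits AlgebraicGeometry Opposite TopologicalSpace Module

namespace K456.LerayC

open Groth.Agent Groth.Agent.VarietyA Groth.Agent.VarietyA.AbsEuler
  Groth.Agent.VarietyA.LerayEuler

section Abs

variable {k : Type w} [Field k] {A : Type u} [Category.{v} A] [Abelian A] (D : DeltaFun k A)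
variable (K : CochainComplex A ℕ) {M : ℕ}
  (hK : ∀ j n, Subsingleton ((D.H (n + 1)).obj (K.X j)))
  (hF : ∀ j n, FiniteDimensional k ((D.H n).obj (K.homology j)))

/-- isomorphism invariance -/
theorem h_congr {F G : A} (e : F ≅ G) (n : ℕ) : D.h F n = D.h G n := by
  rw [DeltaFun.h, DeltaFun.h, (((D.H n).mapIso e).toLinearEquiv).finrank_eq]

include hK hF in
/-- If all cohomology in degrees at least two vanishes. -/
theorem hyp_succ_of_two (hV : ∀ (F : A) (n : ℕ), Subsingleton ((D.H (n + 2)).obj F)) (n : ℕ) :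
    D.hyp K (n + 1) = D.h (K.homology (n + 1)) 0 + D.h (K.homology n) 1 := by
  have hV' : ∀ j m, 2 ≤ m → Subsingleton ((D.H m).obj (K.homology j)) := fun j m hm => by
    obtain ⟨m, rfl⟩ : ∃ r, m = r + 2 := ⟨m - 2, by omega⟩
    exact hV _ m
  rw [D.hyp_succ_eq K (M := 2) (by omega) hK hF hV' n]
  -- the value of `a`
  have ha : ∀ F : A, D.a 2 F = D.h F 1 := by
    intro F
    rw [DeltaFun.a, Finset.sum_range_succ, Finset.sum_range_one]
    have : D.h F (1 + 1) = 0 := D.h_eq_zero (hV F 0)
    rw [this]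
    ring
  have hchi : ∀ F : A, D.chi 2 F = D.h F 0 - D.h F 1 := by
    intro F
    rw [DeltaFun.chi, Finset.sum_range_succ, Finset.sum_range_one]
    ring
  -- `h¹` of the cycles
  have hcyc : ∀ j, D.h (K.cycles j) 1 = D.h (K.homology j) 1 := by
    intro j
    cases j with
    | zero =>
      have e : IsIso (K.homologyπ 0) := K.isIso_homologyπ₀
      exact h_congr D (asIso (K.homologyπ 0)) 1
    | succ j =>
      have hB : Subsingleton ((D.H 1).obj (seqZ K j).X₃) := by
        have h1 : Subsingleton ((D.H 1).obj (K.X j)) := hK j 0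
        have h2 : Subsingleton ((D.H 2).obj (seqZ K j).X₁) := hV _ 0
        have e1 := D.exact₃ (seqZ K j) (seqZ_shortExact K j) 1
        refine subsingleton_of_forall_eq 0 fun x => ?_
        obtain ⟨y, hy⟩ := (e1 x).1 (Subsingleton.elim _ _)
        rw [← hy]
        have : y = 0 := @Subsingleton.elim _ h1 _ _
        rw [this, map_zero]
      have hB2 : Subsingleton ((D.H 2).obj (seqB K j).X₁) := hV _ 0
      have e2 := D.exact₂ (seqB K j) (seqB_shortExact K j) 1
      have e3 := D.exact₃ (seqB K j) (seqB_shortExact K j) 1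
      have hinj : Function.Injective ((D.H 1).map (seqB K j).g).hom := by
        rw [injective_iff_map_eq_zero]
        intro x hx
        obtain ⟨y, hy⟩ := (e2 x).1 hx
        have : y = 0 := @Subsingleton.elim _ hB _ _
        rw [← hy, this, map_zero]
      have hsurj : Function.Surjective ((D.H 1).map (seqB K j).g).hom := by
        intro y
        exact (e3 y).1 (@Subsingleton.elim _ hB2 _ _)
      rw [DeltaFun.h, DeltaFun.h]
      exact_mod_cast (LinearEquiv.ofBijective _ ⟨hinj, hsurj⟩).finrank_eq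
  rw [hchi, ha, ha, hcyc, hcyc]
  ring

variable (hV : ∀ j n, M ≤ n → Subsingleton ((D.H n).obj (K.homology j)))

include hK hF hV in
/-- The cohomology of a resolution. -/
theorem hyp_resolution (hM : 1 ≤ M) (hz : ∀ j, IsZero (K.homology (j + 1)))
    (hz0 : ∀ (F : A), IsZero F → ∀ n, Subsingleton ((D.H n).obj F)) (n : ℕ) :
    D.hyp K (n + 1) = D.h (K.homology 0) (n + 1) := by
  have hcyc : ∀ j m, D.h (K.cycles (j + 1)) m = D.h (seqZ K j).X₃ m := by
    intro j m
    have hS := seqB_shortExact K j
    have : IsIso (seqB K j).f := by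
      have := hS.mono_f
      have : Epi (seqB K j).f := by
        have hg : (seqB K j).g = 0 := (hz j).eq_of_tgt _ _
        exact (hS.exact.epi_f_iff).2 hg
      exact isIso_of_mono_of_epi _
    exact (h_congr D (asIso (seqB K j).f) m).symm
  have hshift : ∀ j m, D.h (K.cycles j) (m + 1) = D.h (K.homology 0) (j + m + 1) := by
    intro j
    induction j with
    | zero =>
      intro m
      have e : IsIso (K.homologyπ 0) := K.isIso_homologyπ₀
      rw [zero_add]
      exact h_congr D (asIso (K.homologyπ 0)) _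
    | succ j ih =>
      intro m
      rw [hcyc, D.h_shift (seqZ_shortExact K j) (hK j) m]
      change D.h (K.cycles j) (m + 1 + 1) = _
      rw [ih]
      congr 1
      omega
  have hzero : D.chi M (K.homology (n + 1)) = 0 := by
    rw [DeltaFun.chi]
    refine Finset.sum_eq_zero fun m _ => ?_
    rw [D.h_eq_zero, mul_zero]
    exact hz0 _ (hz n) m
  rw [D.hyp_succ_eq K hM hK hF hV, hzero, zero_add]
  have hT := D.tame_cycles K hK hF hV n
  have ha : D.a M (K.cycles (n + 1)) = D.h (K.cycles n) 1 - D.a M (K.cycles n) := by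
    refine D.a_shift (hT.van M le_rfl) fun m => ?_
    rw [hcyc, D.h_shift (seqZ_shortExact K n) (hK n) m]
  rw [ha, hshift]
  ring_nf

end Abs

section Sch

variable {X Y : Scheme.{u}} (f : Y ⟶ X) (k : Type u) [Field k] [X.Over (Spec (CommRingCat.of k))]
  [Y.Over (Spec (CommRingCat.of k))]

/-- `h^{n+1}(Y, G) = h⁰(X, R^{n+1} f_* G) + h¹(X, R^n f_* G)` if `H^{≥ 2}(X, -) = 0`. -/
theorem finrank_HH_succ (hf : f ≫ (X ↘ (Spec (CommRingCat.of k))) = Y ↘ (Spec (CommRingCat.of k)))
    [HasInjectiveResolutions Y.Modules] (G : Y.Modules) (M : ℕ)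
    (hX : ∀ (F : X.Modules) (n : ℕ), Subsingleton (Coh.HH X F (n + 2)))
    (hG : ∀ n, FiniteDimensional k (Coh.HH Y G n)) (hG' : ∀ n, M ≤ n → Subsingleton (Coh.HH Y G n))
    (hR : ∀ i n, FiniteDimensional k (Coh.HH X ((Coh.Rpush f i).obj G) n)) (n : ℕ) :
    finrank k (Coh.HH Y G (n + 1)) = finrank k (Coh.HH X ((Coh.Rpush f (n + 1)).obj G) 0) +
      finrank k (Coh.HH X ((Coh.Rpush f n).obj G) 1) := by
  obtain ⟨I⟩ := (HasInjectiveResolutions.out G).out
  have hfl : ∀ j, TopCat.Sheaf.IsFlasque (X := Y.toTopCat) (Coh.toAb (I.cocomplex.X j)) :=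
    fun j => Ega3B.InjMod.isFlasque_of_injective (I.cocomplex.X j)
  let e : ∀ i, (pushCx f I.cocomplex).homology i ≅ (Coh.Rpush f i).obj G :=
    fun i => (I.isoRightDerivedObj (Scheme.Modules.pushforward f) i).symm
  have h1 := hyp_succ_of_two (HHDelta.deltaFun k X) (pushCx f I.cocomplex)
    (fun j n => subsingleton_HH_of_isFlasque _ (isFlasque_pushforward f _ (hfl j)) n)
    (fun j n => finite_of_iso k X (e j).symm n (hR j n)) (fun F n => hX F n) n
  have h2 := hyp_resolution (HHDelta.deltaFun k Y) I.cocomplex (M := M + 1)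
    (fun j n => subsingleton_HH_of_isFlasque _ (hfl j) n)
    (fun j n => by
      cases j with
      | zero => exact finite_of_iso k Y (homologyZeroIso I).symm n (hG n)
      | succ j =>
        have := subsingleton_of_isZero Y (isZero_homology_succ I j) n
        exact (inferInstance : FiniteDimensional k (Coh.HH Y (I.cocomplex.homology (j + 1)) n)))
    (fun j n hn => by
      cases j with
      | zero => exact subsingleton_of_iso Y (homologyZeroIso I).symm n (hG' n (by omega))
      | succ j => exact subsingleton_of_isZero Y (isZero_homology_succ I j) n) (by omega)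
    (isZero_homology_succ I) (fun F hF n => subsingleton_of_isZero Y hF n) n
  rw [hyp_push f k hf, h2, h_congr _ (homologyZeroIso I), h_congr _ (e (n + 1)),
    h_congr _ (e n)] at h1
  have h3 : ((finrank k (Coh.HH Y G (n + 1)) : ℕ) : ℤ) =
      (finrank k (Coh.HH X ((Coh.Rpush f (n + 1)).obj G) 0) : ℤ) +
      (finrank k (Coh.HH X ((Coh.Rpush f n).obj G) 1) : ℤ) := h1
  exact_mod_cast h3

/-- `h⁰(Y, G) = h⁰(X, f_* G)`. -/
theorem finrank_HH_zero (hf : f ≫ (X ↘ (Spec (CommRingCat.of k))) = Y ↘ (Spec (CommRingCat.of k)))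
    (G : Y.Modules) :
    finrank k (Coh.HH Y G 0) = finrank k (Coh.HH X ((Scheme.Modules.pushforward f).obj G) 0) :=
  (LerayH0.pushLin f k hf G).finrank_eq.symm

end Sch

end K456.LerayC
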