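import Groth.Agent.Surf.K456.FibDiv
import Groth.Agent.Surf.K456.IntTwo
import Groth.Agent.Surf.K456.LerayC
import Groth.Agent.S0002
import Groth.Agent.S0016
import Groth.Agent.S0023
import Groth.Agent.S0036
import Groth.Agent.S0042
import Groth.Agent.S0458
import Groth.Agent.S1522
import Groth.Agent.S2385
import Groth.Agent.S2390
import Groth.Agent.Dix.ProjProper
import Groth.Agent.Surf.K456.FlatInv
import Groth.Agent.PerfA.Restrict
import Groth.Agent.VarietyA.CurveFin
import Groth.Agent.Models.H59.P1Fibre
import Groth.Prelude.Def_ClSub2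
import Mathlib.AlgebraicGeometry.AlgClosed.Basic

/-!
# Morphisms of a surface to a curve with fibres isomorphic to `P¹`
-/

set_option autoImplicit false
universe u

open CategoryTheory Limits AlgebraicGeometry TopologicalSpace Opposite IsLocalRing

namespace K456.Ruled

open Groth.Agent Groth.Agent.VarietyA Groth.Agent.Dix.InterNum Groth.Agent.Dix.InterSurf Groth.Agent.Dix.IdealModCartier
  K456.Base K456.FibDiv K456.IntTwo

/-! ### Closed points over an algebraically closed field -/

section Pt

variable {k : Type u} [Field k] [IsAlgClosed k] {C : Scheme.{u}} (g : C ⟶ Spec (CommRingCat.of k))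
  [LocallyOfFiniteType g] (y : C) (hy : IsClosed ({y} : Set C))

include hy in
theorem isIso_residue : IsIso (C.fromSpecResidueField y ≫ g) := by
  rw [← SpecMap_residueFieldIsoBase_inv g y hy]
  infer_instance

include hy in
theorem surjective_glo : Function.Surjective (glo (C.fromSpecResidueField y ≫ g)) := by
  have := isIso_residue g y hy
  have h2 : IsIso (C.fromSpecResidueField y ≫ g).appTop :=
    inferInstanceAs (IsIso ((C.fromSpecResidueField y ≫ g).app ⊤))
  intro v
  obtain ⟨w, hw⟩ := (ConcreteCategory.bijective_of_isIso (C.fromSpecResidueField y ≫ g).appTop).2 v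
  obtain ⟨t, ht⟩ := (ConcreteCategory.bijective_of_isIso
    (Scheme.ΓSpecIso (CommRingCat.of k)).inv).2 w
  exact ⟨t, by rw [← hw, ← ht]; rfl⟩

end Pt

/-- The degree of the ideal of a closed point of a regular curve over an algebraically closed field. -/
theorem deg_point (k : Type u) [Field k] [IsAlgClosed k] (C : Scheme.{u})
    [C.Over (Spec (CommRingCat.of k))] [IsIntegral C] [IsProper (C ↘ Spec (CommRingCat.of k))]
    (hdim : topologicalKrullDim C = 1) (hreg : ∀ c : C, IsRegularLocalRing (C.presheaf.stalk c))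
    (y : C) (hy : IsClosed ({y} : Set C)) :
    Curv2.deg k C (ClSub.idealMod (C.fromSpecResidueField y).ker) 1 = -1 := by
  have hcl : IsClosedImmersion (C.fromSpecResidueField y) :=
    isClosed_singleton_iff_isClosedImmersion.mp hy
  have hn : IsLocallyNoetherian C :=
    LocallyOfFiniteType.isLocallyNoetherian (C ↘ Spec (CommRingCat.of k))
  have hD : BlowUp.IsEffCartierIdeal (C.fromSpecResidueField y).ker := isEff_point hdim hreg y hy
  obtain ⟨L, hL, ⟨e⟩⟩ := Grpsch.PicGrp.exists_inverse (isInvertible_idealMod hD)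
  have hLD : ClSub.IsInverseOf L (ClSub.idealMod (C.fromSpecResidueField y).ker) :=
    ⟨Ega2.Tens.swap L (ClSub.idealMod (C.fromSpecResidueField y).ker) ≪≫ e⟩
  have h1 := deg_inverse k C hdim hLD
  have h2 := deg_of_effCartier k C hdim _ hD L hLD
  rw [finrank_quotMod] at h2
  have h3 : h0 ((C.fromSpecResidueField y).ker.subschemeι ≫ (C ↘ Spec (CommRingCat.of k))) =
      h0 (C.fromSpecResidueField y ≫ (C ↘ Spec (CommRingCat.of k))) := by
    refine h0_congr _ _ (asIso (C.fromSpecResidueField y).toImage).symm ?_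
    rw [Iso.symm_hom, asIso_inv, IsIso.inv_comp_eq, ← Category.assoc]
    congr 1
    exact ((C.fromSpecResidueField y).toImage_imageι).symm
  rw [h3, Models.H55.PtDeg.h0_eq_one _ (surjective_glo _ y hy)] at h2
  rw [h2] at h1
  push_cast at h1
  linarith

/-- The vanishing ideal of a closed point. -/
theorem vanishingIdeal_point {C : Scheme.{u}} (y : C) (hy : IsClosed ({y} : Set C)) :
    Scheme.IdealSheafData.vanishingIdeal ⟨{y}, hy⟩ = (C.fromSpecResidueField y).ker := by
  have hcl : IsClosedImmersion (C.fromSpecResidueField y) :=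
    isClosed_singleton_iff_isClosedImmersion.mp hy
  rw [Ega1.ReducedSub.ker_eq_vanishingIdeal]
  congr 1
  ext1
  change ({y} : Set C) = closure (Set.range (C.fromSpecResidueField y))
  rw [Scheme.range_fromSpecResidueField, hy.closure_eq]

theorem comap_vanishingIdeal {X C : Scheme.{u}} (π : X ⟶ C) (y : C) (hy : IsClosed ({y} : Set C)) :
    (Scheme.IdealSheafData.vanishingIdeal ⟨{y}, hy⟩).comap π = (π.fiberι y).ker := by
  have hcl : IsClosedImmersion (C.fromSpecResidueField y) :=
    isClosed_singleton_iff_isClosedImmersion.mp hy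
  rw [vanishingIdeal_point, ker_fiberι]

/-- Cancellation for properness over a base. -/
theorem isProper_of_comp (k : Type u) [Field k] {X C : Scheme.{u}} [X.Over (Spec (CommRingCat.of k))]
    [C.Over (Spec (CommRingCat.of k))] [IsProper (X ↘ Spec (CommRingCat.of k))]
    [IsProper (C ↘ Spec (CommRingCat.of k))] (π : X ⟶ C)
    (hπ : π ≫ (C ↘ (Spec (CommRingCat.of k))) = (X ↘ (Spec (CommRingCat.of k)))) : IsProper π := by
  have : IsProper (π ≫ (C ↘ (Spec (CommRingCat.of k)))) := by rw [hπ]; infer_instance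
  exact IsProper.of_comp π (C ↘ (Spec (CommRingCat.of k)))

/-- Modules pulled back from the base are trivial on the fibres. -/
theorem trivial_on_fiber {X C : Scheme.{u}} (π : X ⟶ C) (y : C) {M : C.Modules}
    (hM : PicF.IsInvertible M) :
    Nonempty ((Scheme.Modules.pullback (π.fiberι y)).obj ((Scheme.Modules.pullback π).obj M) ≅
      Coh.structureModule (π.fiber y)) := by
  have h5 := pic_residue y (Grpsch.PicGrp.mk _ (Fdesc.LocGen.isInvertible_pullback (C.fromSpecResidueField y) hM))
  obtain ⟨e⟩ := (Grpsch.PicGrp.mk_eq_one_iff _).1 h5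
  exact ⟨(Scheme.Modules.pullbackComp (π.fiberι y) π).app M ≪≫
    (Scheme.Modules.pullbackCongr (π.fiber_fac y)).app M ≪≫
    ((Scheme.Modules.pullbackComp (π.fiberToSpecResidueField y) (C.fromSpecResidueField y)).app M).symm ≪≫
    (Scheme.Modules.pullback (π.fiberToSpecResidueField y)).mapIso e ≪≫
      CurvesA.HHMap.pullbackUnit (π.fiberToSpecResidueField y)⟩

/-! ### Curves isomorphic to `P¹` -/

section P1

variable {k : Type u} [Field k] {F : Scheme.{u}} (e : F ≅ CohB1.ProjSpace 1 k)

include e

theorem isIntegral_of_P1 : IsIntegral F := by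
  have : Nonempty F := ⟨e.inv (Classical.arbitrary _)⟩
  exact isIntegral_of_isOpenImmersion e.hom

theorem krullDim_of_P1 : topologicalKrullDim F = 1 := by
  rw [IsHomeomorph.topologicalKrullDim_eq _ (Scheme.homeoOfIso e).isHomeomorph]
  exact Models.H59.P1Fibre.topologicalKrullDim_P1 k

theorem H1_of_P1 : Subsingleton (Coh.HH F (Coh.structureModule F) 1) := by
  letI : (CohB1.ProjSpace 1 k).Over (Spec (CommRingCat.of k)) := ⟨CohB1.ProjSpace.toSpec 1 k⟩
  letI : F.Over (Spec (CommRingCat.of k)) := ⟨e.hom ≫ CohB1.ProjSpace.toSpec 1 k⟩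
  have h1 : Subsingleton (Coh.HH (CohB1.ProjSpace 1 k)
      (Coh.structureModule (CohB1.ProjSpace 1 k)) 1) := S0023.result 1 k 1 one_pos
  have h2 := isIso_unitToPush e.hom
  have e2 : Coh.structureModule (CohB1.ProjSpace 1 k) ≅
      (Coh.push e.hom).obj (Coh.structureModule F) := asIso (ClSub.unitToPush e.hom)
  obtain ⟨e3⟩ := VarietyB.HHPush.exists_linearEquiv e.hom k rfl (Coh.structureModule F)
    (CurvesB.UnitCoh.isCoh_structureModule F).1 1
  have h3 : Subsingleton (Coh.HH (CohB1.ProjSpace 1 k)
      ((Coh.push e.hom).obj (Coh.structureModule F)) 1) :=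
    (EulerLES.equivΓ e2 1).symm.toEquiv.subsingleton
  exact e3.symm.toEquiv.subsingleton

variable [IsAlgClosed k] [F.Over (Spec (CommRingCat.of k))] [IsProper (F ↘ Spec (CommRingCat.of k))]

/-- Vanishing of `H¹` on a curve isomorphic to `P¹`. -/
theorem H1_of_deg {L : F.Modules} (hL : PicF.IsInvertible L) (hdeg : -1 ≤ Curv2.deg k F L 1) :
    Subsingleton (Coh.HH F L 1) := by
  have := isIntegral_of_P1 e
  have h1 := H1_of_P1 e
  refine S1522.result k F (krullDim_of_P1 e) L hL ?_
  have : Curv2.genus k F = 0 := Module.finrank_zero_of_subsingleton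
  rw [this]
  simpa using hdeg

omit [IsAlgClosed k] in
theorem euler_eq_of_H1 {L : F.Modules} (h : Subsingleton (Coh.HH F L 1)) :
    Curv2.euler k F L = Module.finrank k (Coh.HH F L 0) := by
  have := isIntegral_of_P1 e
  rw [CurvesC.CurveCoh.euler_eq k F (krullDim_of_P1 e)]
  have : Module.finrank k (Coh.HH F L 1) = 0 := Module.finrank_zero_of_subsingleton
  rw [this]
  simp

/-- The dimension of the space of sections. -/
theorem h0_of_deg {L : F.Modules} (hL : PicF.IsInvertible L) (hdeg : -1 ≤ Curv2.deg k F L 1) :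
    (Module.finrank k (Coh.HH F L 0) : ℤ) = Curv2.deg k F L 1 + 1 := by
  have := isIntegral_of_P1 e
  have h1 := H1_of_deg e hL hdeg
  rw [← euler_eq_of_H1 e h1, Curv2.deg, euler_eq_of_H1 e (H1_of_P1 e),
    VarietyA.CurveFin.finrank_h0_structure k F]
  push_cast
  ring

end P1

/-! ### The family -/

theorem exists_closed_specializes {C : Scheme.{u}} [CompactSpace C] (x : C) :
    ∃ y : C, IsClosed ({y} : Set C) ∧ x ⤳ y := by
  obtain ⟨y, hy, hyc⟩ := isClosed_closure.exists_closed_singleton (S := closure ({x} : Set C))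
    ⟨x, subset_closure rfl⟩
  exact ⟨y, hyc, specializes_iff_mem_closure.2 hy⟩

section Fam

variable (k : Type u) [Field k] [IsAlgClosed k] {X C : Scheme.{u}} [X.Over (Spec (CommRingCat.of k))]
  [C.Over (Spec (CommRingCat.of k))]
  [IsProper (X ↘ Spec (CommRingCat.of k))] [IsIntegral X] [IsIntegral C]
  [IsProper (C ↘ (Spec (CommRingCat.of k)))]
  (hdimC : topologicalKrullDim C = 1)
  (hregC : ∀ x : C, IsRegularLocalRing (C.presheaf.stalk x))
  (π : X ⟶ C) (hπ : π ≫ (C ↘ (Spec (CommRingCat.of k))) = (X ↘ (Spec (CommRingCat.of k))))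
  [hsurj : Surjective π]

/-- The structure of `k`-scheme on a fibre. -/
noncomputable abbrev fibOver (y : C) : (π.fiber y).Over (Spec (CommRingCat.of k)) :=
  ⟨π.fiberι y ≫ (X ↘ (Spec (CommRingCat.of k)))⟩

/-- The degree of a module on the fibre over `y`. -/
noncomputable def fdeg (y : C) (L : X.Modules) : ℤ :=
  letI := fibOver k π y
  Curv2.deg k (π.fiber y) ((Scheme.Modules.pullback (π.fiberι y)).obj L) 1

omit [IsAlgClosed k] [IsProper (C ↘ (Spec (CommRingCat.of k)))] [IsIntegral X] [IsIntegral C]
  hsurj [C.Over (Spec (CommRingCat.of k))] in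
theorem intNum_fiber (hdim : topologicalKrullDim X ≤ (2 : ℕ)) (y : C) (hy : IsClosed ({y} : Set C))
    {L : X.Modules} (hL : PicF.IsInvertible L) :
    FGA.intNum k X 2 ![L, ClSub.idealMod (π.fiberι y).ker] (Coh.structureModule X) =
      - fdeg k π y L := by
  letI := fibOver k π y
  have hcl : IsClosedImmersion (C.fromSpecResidueField y) :=
    isClosed_singleton_iff_isClosedImmersion.mp hy
  have hfc : IsClosedImmersion (π.fiberι y) :=
    inferInstanceAs (IsClosedImmersion (pullback.fst π (C.fromSpecResidueField y)))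
  rw [intNum_comm k hdim, intNum_ker k hdim (π.fiberι y) rfl hL]
  rfl

include hπ in
omit [IsIntegral X] [IsIntegral C] [IsAlgClosed k] hsurj in
theorem isProper_fib (y : C) (hy : IsClosed ({y} : Set C)) :
    letI := fibOver k π y
    IsProper ((π.fiber y) ↘ Spec (CommRingCat.of k)) := by
  have hcl : IsClosedImmersion (C.fromSpecResidueField y) :=
    isClosed_singleton_iff_isClosedImmersion.mp hy
  have hfc : IsClosedImmersion (π.fiberι y) :=
    inferInstanceAs (IsClosedImmersion (pullback.fst π (C.fromSpecResidueField y)))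
  exact inferInstanceAs (IsProper (π.fiberι y ≫ (X ↘ (Spec (CommRingCat.of k)))))

include hdimC hregC hπ in
omit [IsAlgClosed k] in
theorem isFlat : Flat π := by
  have := isProper_of_comp k π hπ
  exact K456.FlatCurve.flat_of_dominant π hregC hdimC.le

variable (hfib : ∀ y : C, IsClosed ({y} : Set C) →
  Nonempty (pullback π (C.fromSpecResidueField y) ≅ CohB1.ProjSpace 1 k))

include hπ hfib in
omit [IsIntegral X] [IsIntegral C] hsurj in
/-- Vanishing of the cohomology of the closed fibres. -/
theorem fiberH_vanish {L : X.Modules} (hL : PicF.IsInvertible L)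
    (y : C) (hy : IsClosed ({y} : Set C)) (hdeg : -1 ≤ fdeg k π y L) (p : ℕ) (hp : 0 < p) :
    Subsingleton (CohIII.fiberH π L y p) := by
  letI := fibOver k π y
  have := isProper_fib k π hπ y hy
  obtain ⟨e⟩ := hfib y hy
  by_cases h1 : p = 1
  · subst h1
    exact H1_of_deg (F := π.fiber y) e (Fdesc.LocGen.isInvertible_pullback _ hL) hdeg
  · have hn : IsLocallyNoetherian (π.fiber y) :=
      LocallyOfFiniteType.isLocallyNoetherian ((π.fiber y) ↘ (Spec (CommRingCat.of k)))
    have hc : CompactSpace (π.fiber y) :=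
      (quasiCompact_iff_compactSpace ((π.fiber y) ↘ (Spec (CommRingCat.of k)))).mp inferInstance
    have hN : IsNoetherian (π.fiber y) := {}
    have : NoetherianSpace ((π.fiber y).toTopCat) := inferInstanceAs (NoetherianSpace (π.fiber y))
    exact S0458.result (X := (π.fiber y).toTopCat) 1 (krullDim_of_P1 (F := π.fiber y) e).le _ p
      (by omega)

include hdimC hregC hπ hfib in
/-- The higher direct images vanish. -/
theorem isZero_Rpush [HasInjectiveResolutions X.Modules] {L : X.Modules} (hL : PicF.IsInvertible L)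
    (hdeg : ∀ y : C, IsClosed ({y} : Set C) → -1 ≤ fdeg k π y L) (p : ℕ) (hp : 0 < p) :
    IsZero ((Coh.Rpush π p).obj L) := by
  have hCn : IsLocallyNoetherian C :=
    LocallyOfFiniteType.isLocallyNoetherian (C ↘ (Spec (CommRingCat.of k)))
  have hCc : CompactSpace C :=
    (quasiCompact_iff_compactSpace (C ↘ (Spec (CommRingCat.of k)))).mp inferInstance
  have := isProper_of_comp k π hπ
  have := isFlat k hdimC hregC π hπ
  refine PerfA.Restrict.isZero_of_restrict_opens _ fun x => ?_
  obtain ⟨y, hy, hxy⟩ := exists_closed_specializes x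
  obtain ⟨U, hyU, hU⟩ := S2385.result π L (S2329.isCoh_of_isInvertible hL)
    (FlatInv.isFlatOver_of_isInvertible π hL) y p (fiberH_vanish k π hπ hfib hL y hy (hdeg y hy) p hp)
  exact ⟨U, hxy.mem_open U.2 hyU, hU⟩

include hπ in
omit [IsIntegral X] [IsIntegral C] hsurj in
/-- Dimensions over the residue field and over `k` agree at closed points. -/
theorem fiberRank_eq (L : X.Modules) (p : ℕ) (y : C) (hy : IsClosed ({y} : Set C)) :
    letI := fibOver k π y
    CohIII.fiberRank π L p y =
      Module.finrank k (Coh.HH (π.fiber y) ((Scheme.Modules.pullback (π.fiberι y)).obj L) p) := by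
  letI := fibOver k π y
  let φ := (residueFieldIsoBase (C ↘ (Spec (CommRingCat.of k))) y hy).symm
  have hφ : Spec.map φ.hom = C.fromSpecResidueField y ≫ (C ↘ (Spec (CommRingCat.of k))) :=
    SpecMap_residueFieldIsoBase_inv (C ↘ (Spec (CommRingCat.of k))) y hy
  have hcomp : (π.fiber y) ↘ (Spec (CommRingCat.of k)) =
      π.fiberToSpecResidueField y ≫ Spec.map φ.hom := by
    rw [hφ, ← π.fiber_fac_assoc, hπ]
    rfl
  have hglob : ∀ r : k, Coh.toGlobal ((π.fiber y) ↘ (Spec (CommRingCat.of k))) r =
      Coh.toGlobal (X := π.fiber y) (A := C.residueField y) (π.fiberToSpecResidueField y)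
        (φ.hom.hom r) := by
    intro r
    rw [hcomp]
    have h1 := congrArg (fun q : CommRingCat.of k ⟶ _ => q.hom r)
      (Scheme.ΓSpecIso_inv_naturality φ.hom)
    change (π.fiberToSpecResidueField y ≫ Spec.map φ.hom).appTop.hom
      ((Scheme.ΓSpecIso (CommRingCat.of k)).inv.hom r) =
      (π.fiberToSpecResidueField y).appTop.hom
        ((Scheme.ΓSpecIso (C.residueField y)).inv.hom (φ.hom.hom r))
    rw [Scheme.Hom.comp_appTop]
    exact congrArg (π.fiberToSpecResidueField y).appTop.hom h1.symm
  symm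
  rw [CohIII.fiberRank, Module.finrank, Module.finrank]
  congr 1
  refine rank_eq_of_equiv_equiv (R := k) (R' := C.residueField y) (φ.hom.hom : k → C.residueField y)
    (AddEquiv.refl _) (ConcreteCategory.bijective_of_isIso φ.hom) ?_
  intro r m
  change (Coh.toGlobal ((π.fiber y) ↘ (Spec (CommRingCat.of k))) r) • m = _
  rw [hglob]
  rfl

include hdimC hregC hπ hfib in
/-- The direct image is locally free of rank one more than the fibre degree. -/
theorem isFinLocFreeOfRank_push [HasInjectiveResolutions X.Modules] (n : ℕ) {L : X.Modules}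
    (hL : PicF.IsInvertible L)
    (hdeg : ∀ y : C, IsClosed ({y} : Set C) → fdeg k π y L = n) :
    FlatMod.IsFinLocFreeOfRank (n + 1) ((Coh.push π).obj L) := by
  have hCn : IsLocallyNoetherian C :=
    LocallyOfFiniteType.isLocallyNoetherian (C ↘ (Spec (CommRingCat.of k)))
  have hCc : CompactSpace C :=
    (quasiCompact_iff_compactSpace (C ↘ (Spec (CommRingCat.of k)))).mp inferInstance
  have := isProper_of_comp k π hπ
  have := isFlat k hdimC hregC π hπ
  have hR := isZero_Rpush k hdimC hregC π hπ hfib hL (fun y hy => by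
    rw [hdeg y hy]; have : (0 : ℤ) ≤ n := Nat.cast_nonneg n; linarith)
  intro x
  obtain ⟨y, hy, hxy⟩ := exists_closed_specializes x
  obtain ⟨U, hyU, ⟨e⟩⟩ := (S2390.result π L (S2329.isCoh_of_isInvertible hL)
    (FlatInv.isFlatOver_of_isInvertible π hL) hR).2 y
  have hr : CohIII.fiberRank π L 0 y = n + 1 := by
    letI := fibOver k π y
    have := isProper_fib k π hπ y hy
    obtain ⟨e'⟩ := hfib y hy
    have h1 := h0_of_deg (F := π.fiber y) e' (Fdesc.LocGen.isInvertible_pullback (π.fiberι y) hL)
      (by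
        change -1 ≤ fdeg k π y L
        rw [hdeg y hy]; have : (0 : ℤ) ≤ n := Nat.cast_nonneg n; linarith)
    change _ = fdeg k π y L + 1 at h1
    rw [hdeg y hy] at h1
    rw [fiberRank_eq k π hπ L 0 y hy]
    exact_mod_cast h1
  rw [hr] at e
  exact ⟨U, hxy.mem_open U.2 hyU, ⟨e⟩⟩

include hdimC hregC hπ hfib in
/-- The Leray isomorphism. -/
theorem leray [HasInjectiveResolutions X.Modules] {L : X.Modules} (hL : PicF.IsInvertible L)
    (hdeg : ∀ y : C, IsClosed ({y} : Set C) → -1 ≤ fdeg k π y L) (i : ℕ) :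
    Nonempty (Coh.HH X L i ≃ₗ[k] Coh.HH C ((Coh.push π).obj L) i) := by
  have hCn : IsLocallyNoetherian C :=
    LocallyOfFiniteType.isLocallyNoetherian (C ↘ (Spec (CommRingCat.of k)))
  have hCc : CompactSpace C :=
    (quasiCompact_iff_compactSpace (C ↘ (Spec (CommRingCat.of k)))).mp inferInstance
  have hXc : CompactSpace X :=
    (quasiCompact_iff_compactSpace (X ↘ (Spec (CommRingCat.of k)))).mp inferInstance
  have hXq : QuasiSeparatedSpace X :=
    (quasiSeparated_iff_quasiSeparatedSpace (X ↘ (Spec (CommRingCat.of k)))).mp inferInstance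
  have hCN : IsNoetherian C := {}
  have := isProper_of_comp k π hπ
  have hcoh := S2329.isCoh_of_isInvertible hL
  have hR := isZero_Rpush k hdimC hregC π hπ hfib hL hdeg
  have hRc : ∀ i, Coh.IsCoh ((Coh.Rpush π i).obj L) := fun i => S0036.result π L hcoh i
  have hfX : ∀ n, FiniteDimensional k (Coh.HH X L n) := fun n => S0002.result k X L hcoh n
  have hfC : ∀ i n, FiniteDimensional k (Coh.HH C ((Coh.Rpush π i).obj L) n) := fun i n =>
    S0002.result k C _ (hRc i) n
  have hC2 : ∀ (F : C.Modules) (n : ℕ), Subsingleton (Coh.HH C F (n + 2)) := fun F n => by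
    have : NoetherianSpace (C.toTopCat) := inferInstanceAs (NoetherianSpace C)
    exact S0458.result (X := C.toTopCat) 1 hdimC.le _ _ (by omega)
  obtain ⟨M, hM⟩ := S0016.result X
  let e0 : (Coh.Rpush π 0).obj L ≅ (Coh.push π).obj L :=
    (Scheme.Modules.pushforward π).rightDerivedZeroIsoSelf.app L
  have hf0 : ∀ n, FiniteDimensional k (Coh.HH C ((Coh.push π).obj L) n) := fun n =>
    LerayEuler.finite_of_iso k C e0 n (hfC 0 n)
  have hfr : Module.finrank k (Coh.HH X L i) =
      Module.finrank k (Coh.HH C ((Coh.push π).obj L) i) := by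
    cases i with
    | zero => exact LerayC.finrank_HH_zero π k hπ L
    | succ i =>
      rw [LerayC.finrank_HH_succ π k hπ L M hC2 hfX (fun n hn => hM L hcoh.1 n hn) hfC i]
      have h1 : Subsingleton (Coh.HH C ((Coh.Rpush π (i + 1)).obj L) 0) :=
        LerayEuler.subsingleton_of_isZero C (hR (i + 1) (Nat.succ_pos i)) 0
      have h2 : Module.finrank k (Coh.HH C ((Coh.Rpush π (i + 1)).obj L) 0) = 0 :=
        Module.finrank_zero_of_subsingleton
      rw [h2, zero_add]
      cases i with
      | zero => exact (EulerLES.equivA k e0 1).finrank_eq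
      | succ i =>
        have h3 : Subsingleton (Coh.HH C ((Coh.Rpush π (i + 1)).obj L) 1) :=
          LerayEuler.subsingleton_of_isZero C (hR (i + 1) (Nat.succ_pos i)) 1
        have h4 : Subsingleton (Coh.HH C ((Coh.push π).obj L) (i + 1 + 1)) := hC2 _ i
        have h5 : Module.finrank k (Coh.HH C ((Coh.Rpush π (i + 1)).obj L) 1) = 0 :=
          Module.finrank_zero_of_subsingleton
        have h6 : Module.finrank k (Coh.HH C ((Coh.push π).obj L) (i + 1 + 1)) = 0 :=
          Module.finrank_zero_of_subsingleton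
        rw [h5, h6]
  have := hfX i
  have := hf0 i
  exact ⟨LinearEquiv.ofFinrankEq _ _ hfr⟩

end Fam

end K456.Ruled
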