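import Groth.Agent.Surf.K464.Comp
import Groth.Agent.S7861
import Groth.Agent.Surf.K455.Canon
import Groth.Agent.Surf.K455.RelDim
import Groth.Agent.VarietyA.CurveFin
import Groth.Agent.CurvesC.CurveCoh

/-!
# Adjunction for integral curves on a smooth proper surface (K456)

* `isInvertible_canonical`: the canonical module is invertible.
* `adjunction`: `C² + C·K = -2 χ(O_C)` in the Picard group.
* `adjunction_curve`: `C² + C·K = 2 h¹(O_C) - 2` for an integral curve over an algebraically closed field.
* `eq_of_h1`, `h1_of_neg`: `C² + C·K = -2` iff `h¹(O_C) = 0` iff `C² + C·K < 0`.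
-/

set_option autoImplicit false
universe u
open CategoryTheory CategoryTheory.Limits AlgebraicGeometry Opposite TopologicalSpace

namespace K456.Adj

open Groth.Agent.Grpsch.PicGrp Groth.Agent K464.Base K464.Curves K464.Comp

theorem dim_components {T : Type u} [TopologicalSpace T] [IrreducibleSpace T] {n : WithBot ℕ∞}
    (hdim : topologicalKrullDim T = n) : ∀ Z ∈ irreducibleComponents T, topologicalKrullDim Z = n := by
  intro Z hZ
  have h1 : Z = Set.univ := by
    have h2 : irreducibleComponents T = {Set.univ} := irreducibleComponents_eq_singleton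
    rw [h2] at hZ
    exact hZ
  subst h1
  rw [← hdim]
  exact (Homeomorph.Set.univ T).isHomeomorph.topologicalKrullDim_eq

variable (k : Type u) [Field k] {X : Scheme.{u}} [X.Over (Spec (CommRingCat.of k))]
  [IsProper (X ↘ Spec (CommRingCat.of k))] [Smooth (X ↘ Spec (CommRingCat.of k))] [IsIntegral X]
  (hdim : topologicalKrullDim X = 2)

include hdim

/-- The canonical module is invertible. -/
theorem isInvertible_canonical {W : X.Modules}
    (hW : ExtPow.IsExtPow 2 (Omega.sheaf (X ↘ (Spec (CommRingCat.of k)))) W) : PicF.IsInvertible W := by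
  have : IsNoetherian X := CurvesB.CurveRR.isNoetherian_of_proper k X
  have : SmoothOfRelativeDimension 2 (X ↘ Spec (CommRingCat.of k)) :=
    K455.RelDim.smoothOfRelativeDimension k _ 2 (dim_components hdim)
  exact K455.Canon.isInvertible _ 2 hW

variable {W : X.Modules} (hW : ExtPow.IsExtPow 2 (Omega.sheaf (X ↘ (Spec (CommRingCat.of k)))) W)
  (hWi : PicF.IsInvertible W)

include hW

/-- **Adjunction.** -/
theorem adjunction {C : X.IdealSheafData} (hC : BlowUp.IsEffCartierIdeal C) :
    dot k X (ic C hC) (ic C hC) - dot k X (ic C hC) (mk W hWi) = -2 * Curv2.euler k X (ClSub.quotMod C) := by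
  have hI : PicF.IsInvertible (ClSub.idealMod C) := Dix.IdealModCartier.isInvertible_idealMod hC
  have h := S7861.result k X hdim W hW C.subscheme C.subschemeι (by rw [ker_subschemeι]; exact hI)
  rw [euler_quotMod_sub]
  rw [ker_subschemeι, intNum_eq_dot k X hdim.le hI hI, intNum_eq_dot k X hdim.le hI hWi] at h
  exact h

variable [IsAlgClosed k]

/-- Adjunction for integral curves. -/
theorem adjunction_curve {C : X.IdealSheafData} (hC : IsCurve C) (hCe : BlowUp.IsEffCartierIdeal C) :
    dot k X (ic C hCe) (ic C hCe) - dot k X (ic C hCe) (mk W hWi) =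
      -2 + 2 * (@Module.finrank k (Coh.HH C.subscheme (Coh.structureModule C.subscheme) 1) _ _
        (letI := overC k X C; inferInstance) : ℤ) := by
  letI := overC k X C
  have := isProper_sub k X C
  have := hC.integral
  rw [adjunction k hdim hW hWi hCe, euler_quotMod_sub,
    CurvesC.CurveCoh.euler_eq k C.subscheme ((dim_sub X C).trans hC.dim),
    VarietyA.CurveFin.finrank_h0_structure k C.subscheme]
  push_cast
  ring

/-- `C² + C·K = -2` if `H¹(O_C) = 0`. -/
theorem eq_of_h1 {C : X.IdealSheafData} (hC : IsCurve C) (hCe : BlowUp.IsEffCartierIdeal C)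
    (h1 : Subsingleton (Coh.HH C.subscheme (Coh.structureModule C.subscheme) 1)) :
    dot k X (ic C hCe) (ic C hCe) - dot k X (ic C hCe) (mk W hWi) = -2 := by
  letI := overC k X C
  have h := adjunction_curve k hdim hW hWi hC hCe
  have h2 : Module.finrank k (Coh.HH C.subscheme (Coh.structureModule C.subscheme) 1) = 0 :=
    Module.finrank_zero_of_subsingleton
  rw [h2] at h
  simpa using h

/-- If `C² + C·K < 0` then `H¹(O_C) = 0` and `C² + C·K = -2`. -/
theorem h1_of_neg {C : X.IdealSheafData} (hC : IsCurve C) (hCe : BlowUp.IsEffCartierIdeal C)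
    (h : dot k X (ic C hCe) (ic C hCe) - dot k X (ic C hCe) (mk W hWi) < 0) :
    Subsingleton (Coh.HH C.subscheme (Coh.structureModule C.subscheme) 1) ∧
      dot k X (ic C hCe) (ic C hCe) - dot k X (ic C hCe) (mk W hWi) = -2 := by
  letI := overC k X C
  have := isProper_sub k X C
  have h2 := adjunction_curve k hdim hW hWi hC hCe
  have h3 : Module.finrank k (Coh.HH C.subscheme (Coh.structureModule C.subscheme) 1) = 0 := by
    rw [h2] at h
    omega
  have : Module.Finite k (Coh.HH C.subscheme (Coh.structureModule C.subscheme) 1) :=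
    VarietyA.CurveFin.finite_HH_structure k C.subscheme 1
  have h4 : Subsingleton (Coh.HH C.subscheme (Coh.structureModule C.subscheme) 1) :=
    Module.finrank_zero_iff.1 h3
  exact ⟨h4, eq_of_h1 k hdim hW hWi hC hCe h4⟩

end K456.Adj
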