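import Groth.Agent.Surf.K464.Comp
import Groth.Agent.Surf.K464.Ample
import Groth.Agent.Surf.K465.Hodge2
import Groth.Agent.Models.H38.SecDiv
import Groth.Agent.Dcoh.FinLocFree
import Groth.Agent.Surf.K456.SecTriv

/-!
# Nef classes on a smooth proper surface have nonnegative square (K456)

* `exists_divisor`: the divisor of a nonzero section of an invertible module, in the Picard group.
* `dot_nonneg_of_nef`: a class of nonnegative degree on every curve pairs nonnegatively with effective divisors.
* `exists_eff_of_pos`: `(a·a) > 0`, `(a·H) ≥ 0` imply that some positive multiple of `a` is effective.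
* `nef_sq`: if `a` has nonnegative degree on every curve then `(a·a) ≥ 0`.
-/

set_option autoImplicit false
universe u
open CategoryTheory CategoryTheory.Limits AlgebraicGeometry Opposite TopologicalSpace

namespace K456.NefSq

open Groth.Agent.Grpsch.PicGrp Groth.Agent K464.Base K464.Curves K464.Comp

/-- The divisor of a nonzero section of an invertible module on an integral scheme. -/
theorem exists_divisor {X : Scheme.{u}} [IsIntegral X] {M : X.Modules} (hM : PicF.IsInvertible M) (s : Γ(M, ⊤))
    (hs : s ≠ 0) : ∃ (D : X.IdealSheafData) (hD : BlowUp.IsEffCartierIdeal D), mk M hM = (ic D hD)⁻¹ := by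
  obtain ⟨D, hD, hinv, -⟩ := Models.H38.SecDiv.exists_divisor hM s (by
    intro V e a he hae
    by_cases hV : (V.1 : Set X).Nonempty
    · have hnz : a ≠ 0 := by
        rintro rfl
        rw [zero_smul] at hae
        obtain ⟨x, hx⟩ := hV
        exact hs (K456.SecTriv.eq_zero_of_res hM _ hx s hae)
      have : Nonempty V.1 := hV.to_subtype
      exact mem_nonZeroDivisors_of_ne_zero hnz
    · have hb : V.1 = ⊥ := by
        rw [← TopologicalSpace.Opens.coe_eq_empty]
        exact Set.not_nonempty_iff_eq_empty.1 hV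
      have : Subsingleton Γ(X, V.1) := by
        rw [hb]
        exact inferInstanceAs (Subsingleton Γ(X, ⊥))
      rw [Subsingleton.elim a 1]
      exact one_mem _)
  exact ⟨D, hD, mk_eq_ic_inv hinv hM hD⟩

theorem exists_divisor' {X : Scheme.{u}} [IsIntegral X] {M : X.Modules} (hM : PicF.IsInvertible M)
    (t : Coh.structureModule X ⟶ M) (ht : t ≠ 0) :
    ∃ (D : X.IdealSheafData) (hD : BlowUp.IsEffCartierIdeal D), mk M hM = (ic D hD)⁻¹ :=
  exists_divisor hM (Dcoh.FinLocFree.unitEquiv M t) fun h => ht ((AddEquiv.map_eq_zero_iff _).1 h)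

variable (k : Type u) [Field k] {X : Scheme.{u}} [X.Over (Spec (CommRingCat.of k))]
  [IsProper (X ↘ Spec (CommRingCat.of k))] [IsIntegral X] (hdim : topologicalKrullDim X = 2)

include hdim in
/-- Some positive multiple of a class in the positive cone is effective. -/
theorem exists_eff_of_pos {H : X.Modules} (hH : CohB1.IsAmple H) {a : Pic X} (h1 : 0 < dot k X a a)
    (h2 : 0 ≤ dot k X a (mk H hH.1)) :
    ∃ (n : ℕ) (D : X.IdealSheafData) (hD : BlowUp.IsEffCartierIdeal D), 0 < n ∧ a ^ n = (ic D hD)⁻¹ := by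
  obtain ⟨L, hL, rfl⟩ := exists_mk a
  have hd : topologicalKrullDim X ≤ (2 : ℕ) := hdim.le
  obtain ⟨N, K, h⟩ := K465.Hodge2.exists_sections k hd hdim hH hL
    (by rw [K465.Ip.ip_mk, intNum_eq_dot k X hd hL hL]; exact h1)
    (by rw [K465.Ip.ip_mk, intNum_eq_dot k X hd hL hH.1]; exact h2)
  obtain ⟨⟨t, ht⟩, -⟩ := h (N + 1) (Nat.le_succ N)
  obtain ⟨D, hD, e⟩ := exists_divisor' (Fdesc.LocGen.isInvertible_tensorPow hL (N + 1)) t ht
  exact ⟨N + 1, D, hD, Nat.succ_pos N, by rw [← e, mk_tensorPow]⟩

/-- Some positive multiple of an ample class is effective. -/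
theorem exists_eff_of_ample {H : X.Modules} (hH : CohB1.IsAmple H) :
    ∃ (n : ℕ) (D : X.IdealSheafData) (hD : BlowUp.IsEffCartierIdeal D), 0 < n ∧ mk H hH.1 ^ n = (ic D hD)⁻¹ := by
  obtain ⟨n, s, hs⟩ := K465.Hodge2.exists_power_section hH
  obtain ⟨D, hD, e⟩ := exists_divisor' (Fdesc.LocGen.isInvertible_tensorPow hH.1 (n + 1)) s hs
  exact ⟨n + 1, D, hD, Nat.succ_pos n, by rw [← e, mk_tensorPow]⟩

variable [Smooth (X ↘ Spec (CommRingCat.of k))]

include hdim in
/-- Nef classes pair nonnegatively with effective divisors. -/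
theorem dot_nonneg_of_nef {a : Pic X} (ha : ∀ C : X.IdealSheafData, IsCurve C → 0 ≤ degOn k X C a)
    {b : Pic X} {n : ℕ} (hn : 0 < n) {D : X.IdealSheafData} (hD : BlowUp.IsEffCartierIdeal D)
    (h : b ^ n = (ic D hD)⁻¹) : 0 ≤ dot k X a b := by
  have hd : topologicalKrullDim X ≤ (2 : ℕ) := hdim.le
  have h1 := degOn_nonneg_of_forall k hdim ha hD
  rw [degOn_eq_neg_dot k X hD, ← dot_inv_left k X hd, ← h, dot_pow_left k X hd, dot_comm] at h1
  have hn' : (0 : ℤ) < n := by exact_mod_cast hn
  exact nonneg_of_mul_nonneg_right h1 hn'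

include hdim in
/-- **Nef classes have nonnegative square.** -/
theorem nef_sq {H : X.Modules} (hH : CohB1.IsAmple H) {a : Pic X}
    (ha : ∀ C : X.IdealSheafData, IsCurve C → 0 ≤ degOn k X C a) : 0 ≤ dot k X a a := by
  have hd : topologicalKrullDim X ≤ (2 : ℕ) := hdim.le
  set h : Pic X := mk H hH.1 with hh
  have hhh : 0 < dot k X h h := K464.Ample.dot_pos_of_ample k hdim hH.1 hH.1 hH hH
  have hah : 0 ≤ dot k X a h := by
    obtain ⟨n, D, hD, hn, e⟩ := exists_eff_of_ample hH
    exact dot_nonneg_of_nef k hdim ha hn hD e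
  by_contra hcon
  push Not at hcon
  -- general principle
  have key : ∀ m n : ℕ, 0 < n → 0 < (m : ℤ) * m * dot k X a a + 2 * (m * n * dot k X a h) + n * n * dot k X h h →
      0 ≤ (m : ℤ) * dot k X a a + n * dot k X a h := by
    intro m n hn hpos
    have e1 : dot k X (a ^ m * h ^ n) (a ^ m * h ^ n) =
        (m : ℤ) * m * dot k X a a + 2 * (m * n * dot k X a h) + n * n * dot k X h h := by
      simp only [dot_mul_left k X hd, dot_mul_right k X hd, dot_pow_left k X hd, dot_pow_right k X hd]
      rw [dot_comm k X h a]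
      ring
    have e2 : dot k X (a ^ m * h ^ n) h = (m : ℤ) * dot k X a h + n * dot k X h h := by
      simp only [dot_mul_left k X hd, dot_pow_left k X hd]
    have e3 : dot k X a (a ^ m * h ^ n) = (m : ℤ) * dot k X a a + n * dot k X a h := by
      simp only [dot_mul_right k X hd, dot_pow_right k X hd]
    obtain ⟨l, D, hD, hl, e⟩ := exists_eff_of_pos k hdim hH (a := a ^ m * h ^ n) (by rw [e1]; exact hpos)
      (by rw [← hh, e2]; positivity)
    rw [← e3]
    exact dot_nonneg_of_nef k hdim ha hl hD e
  set A := dot k X a a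
  set B := dot k X a h
  set C := dot k X h h
  rcases hah.eq_or_lt with hB | hB
  · -- `B = 0`
    have h1 := key 1 (1 - A).toNat (by omega) (by
      have h2 : (((1 - A).toNat : ℕ) : ℤ) = 1 - A := Int.toNat_of_nonneg (by linarith)
      rw [h2, ← hB]
      push_cast
      nlinarith)
    rw [← hB] at h1
    push_cast at h1
    linarith
  · have h1 := key (4 * B).toNat (-3 * A).toNat (by omega) (by
      rw [Int.toNat_of_nonneg (by linarith), Int.toNat_of_nonneg (by linarith)]
      have h2 : 4 * B * (4 * B) * A + 2 * (4 * B * (-3 * A) * B) + -3 * A * (-3 * A) * C =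
        - (8 * (B * B) * A) + 9 * (A * A) * C := by ring
      rw [h2]
      have h3 : 0 < A * A := by nlinarith
      have h4 : 0 < B * B := by nlinarith
      nlinarith [mul_pos h3 hhh, mul_pos h4 (neg_pos.2 hcon)])
    rw [Int.toNat_of_nonneg (by linarith), Int.toNat_of_nonneg (by linarith)] at h1
    nlinarith

end K456.NefSq
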