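import Groth.Agent.Surf.K456.NefSq
import Groth.Agent.Surf.K455.CompAmple
import Groth.Agent.EGA2.K30.AmpleLoc

/-!
# Nakai's criterion on a smooth proper surface (K456)

* `hodge_neg`: `(a·a) > 0`, `(a·m) = 0`, `(m·h) ≠ 0` imply `(m·m) < 0`.
* `nakai`: a class of positive square and of positive degree on every curve is ample.
-/

set_option autoImplicit false
universe u
open CategoryTheory CategoryTheory.Limits AlgebraicGeometry Opposite TopologicalSpace

namespace K456.Nakai

open Groth.Agent.Grpsch.PicGrp Groth.Agent K464.Base K464.Curves K464.Comp K464.DivLat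

variable (k : Type u) [Field k] {X : Scheme.{u}} [X.Over (Spec (CommRingCat.of k))]
  [IsProper (X ↘ Spec (CommRingCat.of k))] [IsIntegral X] (hdim : topologicalKrullDim X = 2)

include hdim

/-- The Hodge index theorem. -/
theorem hodge {H : X.Modules} (hH : CohB1.IsAmple H) {a m : Pic X} (ha : 0 < dot k X a a) (ham : dot k X a m = 0) :
    dot k X m m ≤ 0 := by
  obtain ⟨L, hL, rfl⟩ := exists_mk a
  obtain ⟨M, hM, rfl⟩ := exists_mk m
  have hd : topologicalKrullDim X ≤ (2 : ℕ) := hdim.le
  have h := K465.Hodge2.hodge_pos k hd hdim hH hL hM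
    (by rw [K465.Ip.ip_mk, intNum_eq_dot k X hd hL hL]; exact ha)
    (by rw [K465.Ip.ip_mk, intNum_eq_dot k X hd hL hM]; exact ham)
  rwa [K465.Ip.ip_mk, intNum_eq_dot k X hd hM hM] at h

theorem hodge_neg {H : X.Modules} (hH : CohB1.IsAmple H) {a m h : Pic X} (ha : 0 < dot k X a a)
    (ham : dot k X a m = 0) (hmh : dot k X m h ≠ 0) : dot k X m m < 0 := by
  have hd : topologicalKrullDim X ≤ (2 : ℕ) := hdim.le
  refine lt_of_le_of_ne (hodge k hdim hH ha ham) fun h0 => ?_
  set A := dot k X a a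
  set B := dot k X a h
  set c := dot k X m h
  obtain ⟨n, hn⟩ : ∃ n : Pic X, n = h ^ A * a ^ (-B) := ⟨_, rfl⟩
  set K := dot k X n n with hK
  have han : dot k X a n = 0 := by
    rw [hn, dot_mul_right k X hd, dot_zpow_right k X hd, dot_zpow_right k X hd]
    ring
  have hma : dot k X m a = 0 := by rw [dot_comm]; exact ham
  have hmn : dot k X m n = A * c := by
    rw [hn, dot_mul_right k X hd, dot_zpow_right k X hd, dot_zpow_right k X hd, hma]
    ring
  have key : ∀ t : ℤ, K + 2 * t * (A * c) ≤ 0 := by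
    intro t
    have h1 := hodge k hdim hH (a := a) (m := n * m ^ t) ha (by
      rw [dot_mul_right k X hd, han, dot_zpow_right k X hd, ham]; ring)
    simp only [dot_mul_left k X hd, dot_mul_right k X hd, dot_zpow_right k X hd, dot_zpow_left k X hd] at h1
    rw [h0, dot_comm k X n m, hmn] at h1
    linarith
  have h1 := key (c * (|K| + 1))
  have h2 : 0 < c * c := mul_self_pos.2 hmh
  have h3 := neg_abs_le K
  have h4 := abs_nonneg K
  have h5 : 1 ≤ A * (c * c) := by nlinarith
  nlinarith

variable [Smooth (X ↘ Spec (CommRingCat.of k))]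

/-- **Nakai's criterion.** -/
theorem nakai {H : X.Modules} (hH : CohB1.IsAmple H) {L : X.Modules} (hL : PicF.IsInvertible L)
    (hpos : ∀ C : X.IdealSheafData, IsCurve C → 0 < degOn k X C (mk L hL))
    (hsq : 0 < dot k X (mk L hL) (mk L hL)) : CohB1.IsAmple L := by
  have hd : topologicalKrullDim X ≤ (2 : ℕ) := hdim.le
  have : IsNoetherian X := CurvesB.CurveRR.isNoetherian_of_proper k X
  have hLH : 0 ≤ dot k X (mk L hL) (mk H hH.1) := by
    obtain ⟨n, D, hD, hn, e⟩ := NefSq.exists_eff_of_ample hH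
    exact NefSq.dot_nonneg_of_nef k hdim (fun C hC => (hpos C hC).le) hn hD e
  obtain ⟨n, D, hD, hn, e⟩ := NefSq.exists_eff_of_pos k hdim hH hsq hLH
  obtain ⟨r, C, d, hC, hinj, hdpos, rfl⟩ :=
    exists_eq_cyc k (X ↘ Spec (CommRingCat.of k)) hdim (fun x => S1535.result k X x) D hD
  have hE : ∀ i, BlowUp.IsEffCartierIdeal (C i) := fun i => isEff_of_smooth k hdim (hC i)
  have hn' : (0 : ℤ) < n := by exact_mod_cast hn
  have e' : ic (cyc C d) hD = (mk L hL ^ n)⁻¹ := by rw [e, inv_inv]
  rw [K30.AmpleLoc.isAmple_iff_tensorPow hL hn]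
  have hLn := Fdesc.LocGen.isInvertible_tensorPow hL n
  refine K455.CompAmple.isAmple_cyc k hC hE hinj hd hdpos (fun j => ?_) (fun C' hC' hdis => ?_) hLn ?_
  · have h1 := degOn_cyc k hE hd d j
    rw [e', degOn_inv k (hC j), degOn_pow k (hC j)] at h1
    have h2 := mul_pos hn' (hpos (C j) (hC j))
    linarith
  · have h1 := degOn_ic_eq_zero k hC' hD hdis
    rw [e', degOn_inv k hC', degOn_pow k hC'] at h1
    have h2 := mul_pos hn' (hpos C' hC')
    linarith
  · have h1 : mk _ hLn * ic (cyc C d) hD = 1 := by rw [mk_tensorPow hL, e, inv_mul_cancel]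
    unfold ic at h1
    rw [mk_mul_mk, mk_eq_one_iff] at h1
    exact h1

end K456.Nakai
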