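import Groth.Agent.Surf.K456.RelCan
import Groth.Agent.CurvesB.OmegaInv
import Groth.Agent.S1596
import Groth.Agent.S1612
import Groth.Agent.S2431

/-!
# Direct image of the relative canonical module of a surface over a curve: rank and degree (K456)

* `isFinLocFreeOfRank_push`: `f_* ω_{S/C}` is locally free of rank the genus of the fibres.
* `deg_push`: for a semistable fibration `deg f_* ω_{S/C} = χ(O_S) - (g(C) - 1)(g - 1)`.
-/

set_option autoImplicit false
universe u
open CategoryTheory CategoryTheory.Limits AlgebraicGeometry TopologicalSpace Opposite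

namespace K456.RelCan

open Groth.Agent K707.Base K707.Deg K707.TensL K707.Slope K456.CurveTw K456.LerayTw
  Groth.Agent.VarietyA.DegRank Groth.Agent.Grpsch.PicGrp
open K456.Ruled (isProper_of_comp exists_closed_specializes)

variable (k : Type u) [Field k] [IsAlgClosed k] {S C : Scheme.{u}} [S.Over (Spec (CommRingCat.of k))]
  [C.Over (Spec (CommRingCat.of k))] [IsProper (S ↘ (Spec (CommRingCat.of k)))]
  [Smooth (S ↘ (Spec (CommRingCat.of k)))] [IsIntegral S]
  (hdim : topologicalKrullDim S = 2) [IsProper (C ↘ (Spec (CommRingCat.of k)))]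
  [Smooth (C ↘ (Spec (CommRingCat.of k)))] [IsIntegral C]
  (hdimC : topologicalKrullDim C = 1) (f : S ⟶ C)
  (hf : f ≫ (C ↘ (Spec (CommRingCat.of k))) = S ↘ (Spec (CommRingCat.of k))) [Surjective f]
  [HasInjectiveResolutions S.Modules] (hO : IsIso (ClSub.unitToPush f))
  {WS : S.Modules} (hWS : ExtPow.IsExtPow 2 (Omega.sheaf (S ↘ (Spec (CommRingCat.of k)))) WS)
  (p : C) (hp : IsClosed ({p} : Set C)) (g : ℕ)
  (hg : Curv2.euler k S (ClSub.quotMod (f.fiberι p).ker) = 1 - (g : ℤ))
  {M : S.Modules} (hM : ClSub.IsInverseOf M ((Scheme.Modules.pullback f).obj (Omega.sheaf (C ↘ (Spec (CommRingCat.of k))))))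

include hdimC in
theorem isInvertible_Omega : PicF.IsInvertible (Omega.sheaf (C ↘ (Spec (CommRingCat.of k)))) :=
  CurvesB.OmegaInv.isInvertible_omega (C ↘ (Spec (CommRingCat.of k))) hdimC

include hdim hdimC hf hO hWS hp hg hM in
theorem finrank_push : rk ((Coh.Rpush f 0).obj (CohB1.tensorMod WS M)) = g ∧
    FlatMod.IsFinLocFree ((Coh.Rpush f 0).obj (CohB1.tensorMod WS M)) := by
  have D : Crv k C := Crv.of_smooth hdimC
  have hcn : IsNoetherian C := K707.Deg.isNoetherian k (X := C)
  have hregC : ∀ x : C, IsRegularLocalRing (C.presheaf.stalk x) :=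
    FibDiv.isRegular_of_smooth (C ↘ (Spec (CommRingCat.of k)))
  have hΩ := isInvertible_Omega k hdimC
  have hMi := isInvertible_of_isInverseOf (Fdesc.LocGen.isInvertible_pullback f hΩ) hM
  have hWSi := Adj.isInvertible_canonical k hdim hWS
  have hcoh : Coh.IsCoh (Coh.structureModule S) := CurvesB.UnitCoh.isCoh_structureModule S
  have hR := coh_Rpush k f hf hcoh 1
  obtain ⟨T, Q, i, q, w, hS, hT, hQ, hT0, hQt⟩ := exists_torsion hR
  have h := main k hdim hdimC f hf hWS D hregC hWSi p hp hΩ hMi hM (ShortComplex.mk i q w) hS hT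
    (vb_of_torsionFree D hQ hQt) hT0 rfl
  refine ⟨h.1.trans (rk_R k hdim hdimC f hf hO hregC D p hp g hg), ?_⟩
  exact vb_push k hdim f hf D (Fdesc.LocGen.isInvertible_tensorMod hWSi hMi)

include hdim hdimC hf hO hWS hp hg hM in
theorem isFinLocFreeOfRank_push :
    FlatMod.IsFinLocFreeOfRank g ((Coh.push f).obj (CohB1.tensorMod WS M)) := by
  obtain ⟨h1, h2⟩ := finrank_push k hdim hdimC f hf hO hWS p hp g hg hM
  have h3 := isFinLocFreeOfRank_rk h2
  rw [h1] at h3
  exact rank_iso (((Scheme.Modules.pushforward f).rightDerivedZeroIsoSelf).app (CohB1.tensorMod WS M)) h3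

include hO in
theorem isIso_app (U : C.Opens) : IsIso (f.app U) := by
  rw [Scheme.Modules.Hom.isIso_iff_isIso_app] at hO
  have h := hO U
  rw [ConcreteCategory.isIso_iff_bijective] at h ⊢
  exact h

include hdim hdimC hf hO hWS hp hg hM in
/-- The degree when the fibration is semistable. -/
theorem deg_push (hss : Curv2.IsNodalFamily f) :
    Curv2.euler k C ((Coh.push f).obj (CohB1.tensorMod WS M)) - (g : ℤ) * Curv2.euler k C (Coh.structureModule C) =
      Curv2.euler k S (Coh.structureModule S) - ((Curv2.genus k C : ℤ) - 1) * ((g : ℤ) - 1) := by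
  have D : Crv k C := Crv.of_smooth hdimC
  have hcn : IsNoetherian C := K707.Deg.isNoetherian k (X := C)
  have := isProper_of_comp k f hf
  have hgc : GeometricallyConnected f := (S2431.result f (isIso_app f hO)).2
  have hregC : ∀ x : C, IsRegularLocalRing (C.presheaf.stalk x) :=
    FibDiv.isRegular_of_smooth (C ↘ (Spec (CommRingCat.of k)))
  have hΩ := isInvertible_Omega k hdimC
  have hMi := isInvertible_of_isInverseOf (Fdesc.LocGen.isInvertible_pullback f hΩ) hM
  have hWSi := Adj.isInvertible_canonical k hdim hWS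
  have hRv := (S1596.result f hss).1
  obtain ⟨z, hz⟩ := HasZeroObject.zero (C := C.Modules)
  have hz : IsZero z := hz
  let R := (Coh.Rpush f 1).obj (Coh.structureModule S)
  let T : ShortComplex C.Modules := ShortComplex.mk (0 : z ⟶ R) (𝟙 R) (by simp)
  have hTm : Mono T.g := inferInstanceAs (Mono (𝟙 R))
  have hT : T.ShortExact :=
    { exact := (ShortComplex.exact_iff_mono T (hz.eq_of_src _ _)).2 hTm
      mono_f := ⟨fun _ _ _ => hz.eq_of_tgt _ _⟩
      epi_g := inferInstanceAs (Epi (𝟙 R)) }
  have h1 : Coh.IsCoh z := Sga67.CohBasic.isCoh_of_isZero hz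
  have h := (main k hdim hdimC f hf hWS D hregC hWSi p hp hΩ hMi hM T hT h1 hRv
    ((VarietyB.ExactLoc.isZero_iff_stalk z).1 hz _) rfl).2
  have hrk := (finrank_push k hdim hdimC f hf hO hWS p hp g hg hM).1
  have hrR := rk_R k hdim hdimC f hf hO hregC D p hp g hg
  have hz0 : dg k z = 0 := dg_of_isZero hz
  have h0 := VarietyA.CurveFin.finrank_h0_structure k C
  have hq := CurvesC.CurveCoh.euler_eq k C hdimC (Coh.structureModule C)
  have hq1 : Module.finrank k (Coh.HH C (Coh.structureModule C) 1) = Curv2.genus k C := rfl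
  rw [h0, hq1] at hq
  have hO' := (S1612.result k C ⟨inferInstance, inferInstance, inferInstance, hdimC⟩ h0).2
  rw [← dg_of_rank k (rank_one_iff.mpr hΩ)] at hO'
  have hS := euler_structure k hdim hdimC f hf hO
  have e1 : Curv2.euler k C ((Coh.push f).obj (CohB1.tensorMod WS M)) =
      Curv2.euler k C ((Coh.Rpush f 0).obj (CohB1.tensorMod WS M)) :=
    (VarietyA.EulerAdd.euler_congr k
      (((Scheme.Modules.pushforward f).rightDerivedZeroIsoSelf).app (CohB1.tensorMod WS M))).symm
  change dg k ((Coh.Rpush f 0).obj (CohB1.tensorMod WS M)) = dg k z - _ - _ at h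
  rw [hz0, dg, dg, hrk, hrR, hO', hq] at h
  rw [e1, hS, hq]
  push_cast at h ⊢
  linarith

end K456.RelCan
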