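import Groth.Agent.Surf.K456.TorsTriv
import Groth.Agent.Surf.K456.FibDiv
import Groth.Agent.Surf.K456.Ruled
import Groth.Agent.Ega3B.Package
import Groth.Agent.Ega3B.SpecPoint
import Groth.Agent.Ega3A.DRank
import Groth.Agent.PicF.K245.GeomCR
import Groth.Agent.S1589
import Groth.Agent.S2389

/-!
# Torsion invertible modules on a family of curves (K456)

`f : S ⟶ C` proper flat with geometrically connected and geometrically reduced fibres, `C` a regular curve over `k`,
`N` invertible on `S` with `N^l ≅ O`, `l` invertible in `k`.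

* `trivial_of_section`: if `H⁰(S_y, N_y) ≠ 0` then `N_y ≅ O`.
* `subsingleton_h0`: if `N_p` is nontrivial for one point `p`, then `H⁰(S_y, N_y) = 0` for all `y`.
-/

set_option autoImplicit false
universe u
open CategoryTheory CategoryTheory.Limits AlgebraicGeometry TopologicalSpace Opposite

namespace K456.TorsFib

open Groth.Agent Groth.Agent.Ega3B.SpecPoint Groth.Agent.Grpsch.PicGrp
open K456.Ruled (isProper_of_comp exists_closed_specializes)

section General

variable {X Y : Scheme.{u}} (f : X ⟶ Y) [IsProper f] [IsLocallyNoetherian Y] (F : X.Modules)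
  (hF : Coh.IsCoh F) (hfl : FlatMod.IsFlatOver f F) (p : ℕ)

include hF hfl in
/-- The vanishing of the cohomology of the fibres is an open condition. -/
theorem isOpen_van [HasInjectiveResolutions X.Modules] :
    IsOpen {y : Y | Subsingleton (CohIII.fiberH f F y p)} := by
  rw [isOpen_iff_forall_mem_open]
  intro y hy
  obtain ⟨V, hV, hyV⟩ := exists_affine_nhd y
  have hN := isNoetherianRing hV
  obtain ⟨P, hP, hb, hH, hr⟩ := Ega3B.Package.package f F hF hfl V hV
  have hfin : ∀ z : V, Module.Finite (Y.residueField z.1) (CohIII.fiberH f F z.1 p) := fun z => (hr z p).1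
  have hrk := fun z : V => (hr z p).2
  have h1 := (hP (-(p : ℤ))).1
  have h2 := (hP (-(p : ℤ) - 1)).1
  have h3 := (hP (-(p : ℤ) - 1)).2
  have h4 : Module.FinitePresentation Γ(Y, V) (P.X (-(p : ℤ) - 1)) :=
    Module.finitePresentation_of_finite _ _
  have hsc := Ega3A.DRank.upperSemicontinuous_dRank P (-(p : ℤ)) (-(p : ℤ) - 1) (by simp)
  have hsub : ∀ z : V, Subsingleton (CohIII.fiberH f F z.1 p) ↔
      CohIII.dRank P (-(p : ℤ)) (hV.primeIdealOf z) < 1 := by
    intro z
    have := hfin z
    rw [← hrk z, Nat.lt_one_iff, CohIII.fiberRank]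
    exact Module.finrank_zero_iff.symm
  refine ⟨hV.fromSpec '' {x | CohIII.dRank P (-(p : ℤ)) x < 1}, ?_, ?_, ?_⟩
  · rintro _ ⟨x, hx, rfl⟩
    change Subsingleton _
    have := hsub ⟨hV.fromSpec x, fromSpec_mem hV x⟩
    rw [primeIdealOf_fromSpec] at this
    exact this.2 hx
  · exact hV.fromSpec.isOpenEmbedding.isOpenMap _ (hsc.isOpen_preimage 1)
  · refine ⟨hV.primeIdealOf ⟨y, hyV⟩, (hsub ⟨y, hyV⟩).1 hy, hV.fromSpec_primeIdealOf ⟨y, hyV⟩⟩

end General

/-- A nodal family is geometrically reduced. -/
theorem geometricallyReduced_of_nodal {X Y : Scheme.{u}} (f : X ⟶ Y) (hf : Curv2.IsNodalFamily f) :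
    GeometricallyReduced f := by
  have hlfp := hf.2.1
  refine ⟨?_⟩
  rw [geometrically_iff_forall_fiberToSpecResidueField]
  intro y
  letI : (f.fiber y).Over (Spec (CommRingCat.of (Y.residueField y))) := ⟨f.fiberToSpecResidueField y⟩
  have h0 : LocallyOfFiniteType ((f.fiber y) ↘ (Spec (CommRingCat.of (Y.residueField y)))) :=
    inferInstanceAs (LocallyOfFiniteType (pullback.snd f (Y.fromSpecResidueField y)))
  have h1 : GeometricallyReduced (f.fiberToSpecResidueField y) :=
    (S1589.result (Y.residueField y) (f.fiber y) (hf.2.2 y).1 (hf.2.2 y).2).2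
  exact h1.geometrically_isReduced

/-- Pull-back of a trivial power. -/
theorem pull_pow {X Y : Scheme.{u}} (g : X ⟶ Y) {N : Y.Modules} (hN : PicF.IsInvertible N) {l : ℕ}
    (e : Nonempty (CohB1.tensorPow N l ≅ Coh.structureModule Y)) :
    Nonempty (CohB1.tensorPow ((Scheme.Modules.pullback g).obj N) l ≅ Coh.structureModule X) := by
  have h1 : mk N hN ^ l = 1 := by
    rw [← mk_tensorPow hN, mk_eq_one_iff]; exact e
  have h2 : mk _ (Fdesc.LocGen.isInvertible_pullback g hN) ^ l = 1 := by
    rw [← pull_mk g hN, ← map_pow, h1, map_one]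
  rw [← mk_tensorPow (Fdesc.LocGen.isInvertible_pullback g hN), mk_eq_one_iff] at h2
  exact h2

/-- Pull-back of a trivial module along a factorisation. -/
theorem pull_trivial {X Y Z : Scheme.{u}} {g : X ⟶ Y} {h : Y ⟶ Z} {q : X ⟶ Z} (w : g ≫ h = q) {N : Z.Modules}
    (e : Nonempty ((Scheme.Modules.pullback h).obj N ≅ Coh.structureModule Y)) :
    Nonempty ((Scheme.Modules.pullback q).obj N ≅ Coh.structureModule X) := by
  obtain ⟨e⟩ := e
  subst w
  exact ⟨((Scheme.Modules.pullbackComp g h).app N).symm ≪≫ (Scheme.Modules.pullback g).mapIso e ≪≫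
    CurvesA.HHMap.pullbackUnit g⟩

section Fam

variable {S C : Scheme.{u}} (f : S ⟶ C) [IsProper f] [Flat f] [LocallyOfFinitePresentation f]
  [GeometricallyConnected f] [GeometricallyReduced f]

theorem isField_fiber (y : C) : IsField Γ(f.fiber y, ⊤) := by
  have h := K245.GeomCR.isIso_app_snd f (C.fromSpecResidueField y) ⊤
  have hb := ConcreteCategory.bijective_of_isIso ((pullback.snd f (C.fromSpecResidueField y)).app ⊤)
  have hF : IsField Γ(Spec (C.residueField y), ⊤) := by
    have e : Γ(Spec (C.residueField y), ⊤) ≃* C.residueField y :=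
      (Scheme.ΓSpecIso (C.residueField y)).commRingCatIsoToRingEquiv.toMulEquiv
    exact e.isField (Field.toIsField (C.residueField y))
  let e2 : Γ(Spec (C.residueField y), ⊤) ≃+* Γ(f.fiber y, ⊤) :=
    RingEquiv.ofBijective ((pullback.snd f (C.fromSpecResidueField y)).app ⊤).hom hb
  exact e2.symm.toMulEquiv.isField hF

/-- A torsion invertible module with a nonzero section on a fibre is trivial on that fibre. -/
theorem trivial_of_section {N : S.Modules} (hN : PicF.IsInvertible N) {l : ℕ} (hl : 0 < l)
    (e : Nonempty (CohB1.tensorPow N l ≅ Coh.structureModule S)) (y : C)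
    (h : Nontrivial (CohIII.fiberH f N y 0)) :
    Nonempty ((Scheme.Modules.pullback (f.fiberι y)).obj N ≅ Coh.structureModule (f.fiber y)) := by
  have hred : IsReduced (f.fiber y) :=
    fiber_of_geometrically (P := IsReduced) (GeometricallyReduced.geometrically_isReduced (f := f)) y
  obtain ⟨x, hx⟩ := exists_ne (0 : CohIII.fiberH f N y 0)
  let s := CurvesB.HZero.equivAdd (CohIII.fiberMod f N y) x
  have hs : s ≠ 0 := by rwa [Ne, (CurvesB.HZero.equivAdd (CohIII.fiberMod f N y)).map_eq_zero_iff]
  exact TorsTriv.iso_of_pow (isField_fiber f y) (Fdesc.LocGen.isInvertible_pullback (f.fiberι y) hN) hl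
    (pull_pow (f.fiberι y) hN e) hs

end Fam

section Curve

variable (k : Type u) [Field k] {S C : Scheme.{u}} [C.Over (Spec (CommRingCat.of k))]
  [IsLocallyNoetherian C] [IsIntegral C] (hdimC : topologicalKrullDim C = 1)
  (hregC : ∀ c : C, IsRegularLocalRing (C.presheaf.stalk c))

include hdimC hregC in
theorem isDVR (s : C) (hs : IsClosed ({s} : Set C)) : IsDiscreteValuationRing (C.presheaf.stalk s) := by
  have := hregC s
  have := K456.FlatCurve.isPrincipalIdealRing_of_regular (C.presheaf.stalk s)
    ((Models2.CodimStalk.ringKrullDim_stalk_le C s).trans hdimC.le)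
  obtain ⟨ϖ, h1, h2⟩ := FibDiv.exists_uniformizer hdimC hregC s hs
  exact { not_a_field' := by rw [h1, Ne, Ideal.span_singleton_eq_bot]; exact h2 }

include k in
omit [IsLocallyNoetherian C] [IsIntegral C] in
theorem isUnit_stalk (s : C) {l : ℕ} (hl : (l : k) ≠ 0) : IsUnit (l : C.presheaf.stalk s) := by
  let φ : k →+* C.presheaf.stalk s :=
    (C.presheaf.germ ⊤ s trivial).hom.comp
      ((C ↘ (Spec (CommRingCat.of k))).appTop.hom.comp (Scheme.ΓSpecIso (CommRingCat.of k)).inv.hom)
  have h1 : IsUnit (l : k) := isUnit_iff_ne_zero.2 hl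
  have h2 := h1.map φ
  rwa [map_natCast] at h2

variable (f : S ⟶ C) [IsProper f] [Flat f] [LocallyOfFinitePresentation f]
  [GeometricallyConnected f] [GeometricallyReduced f] [Surjective f]

include k hdimC hregC in
/-- A torsion invertible module trivial on a closed fibre is trivial over the local ring. -/
theorem trivial_local {N : S.Modules} (hN : PicF.IsInvertible N) {l : ℕ} (hlk : (l : k) ≠ 0)
    (e : Nonempty (CohB1.tensorPow N l ≅ Coh.structureModule S)) (s : C) (hs : IsClosed ({s} : Set C))
    (h : Nonempty ((Scheme.Modules.pullback (f.fiberι s)).obj N ≅ Coh.structureModule (f.fiber s))) :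
    Nonempty ((Scheme.Modules.pullback (pullback.fst f (C.fromSpecStalk s))).obj N ≅
      Coh.structureModule (pullback f (C.fromSpecStalk s))) := by
  have hdvr := isDVR hdimC hregC s hs
  let p : pullback f (C.fromSpecStalk s) ⟶ Spec (CommRingCat.of (C.presheaf.stalk s)) :=
    pullback.snd f (C.fromSpecStalk s)
  have hp1 : IsProper p := inferInstanceAs (IsProper (pullback.snd f (C.fromSpecStalk s)))
  have hp2 : Flat p := inferInstanceAs (Flat (pullback.snd f (C.fromSpecStalk s)))
  have hiso : IsIso p.appTop := K245.GeomCR.isIso_app_snd f (C.fromSpecStalk s) ⊤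
  have hne : Nonempty ↥(pullback f (C.fromSpecStalk s)) := by
    have hsj : Surjective (pullback.snd f (C.fromSpecStalk s)) := inferInstance
    obtain ⟨x, -⟩ := hsj.surj (IsLocalRing.closedPoint (C.presheaf.stalk s))
    exact ⟨x⟩
  refine TorsTriv.iso_of_specialFibre (C.presheaf.stalk s) (pullback f (C.fromSpecStalk s)) p hne hiso l
    (isUnit_stalk k s hlk) _ (Fdesc.LocGen.isInvertible_pullback _ hN) (pull_pow _ hN e) ?_
  -- the special fibre
  let i : Models.specialFibre (C.presheaf.stalk s) (pullback f (C.fromSpecStalk s)) p ⟶ _ :=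
    pullback.fst p (Spec.map (CommRingCat.ofHom
          (algebraMap (C.presheaf.stalk s) (IsLocalRing.ResidueField (C.presheaf.stalk s)))))
  let j : Models.specialFibre (C.presheaf.stalk s) (pullback f (C.fromSpecStalk s)) p ⟶ _ :=
    pullback.snd p (Spec.map (CommRingCat.ofHom
          (algebraMap (C.presheaf.stalk s) (IsLocalRing.ResidueField (C.presheaf.stalk s)))))
  have hij : i ≫ p = j ≫ Spec.map (C.residue s) := pullback.condition
  let m : Models.specialFibre (C.presheaf.stalk s) (pullback f (C.fromSpecStalk s)) p ⟶ f.fiber s :=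
    pullback.lift (i ≫ pullback.fst f (C.fromSpecStalk s)) j (by
      rw [Category.assoc, pullback.condition]
      change i ≫ p ≫ C.fromSpecStalk s = _
      rw [← Category.assoc, hij, Category.assoc]
      rfl)
  have hm : m ≫ f.fiberι s = i ≫ pullback.fst f (C.fromSpecStalk s) := pullback.lift_fst _ _ _
  obtain ⟨e1⟩ := pull_trivial hm h
  exact ⟨(Scheme.Modules.pullbackComp i (pullback.fst f (C.fromSpecStalk s))).app N ≪≫ e1⟩

include k hdimC hregC in
/-- The generic fibre. -/
theorem nontrivial_generic {N : S.Modules} (hN : PicF.IsInvertible N) {l : ℕ} (hlk : (l : k) ≠ 0)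
    (e : Nonempty (CohB1.tensorPow N l ≅ Coh.structureModule S)) (s : C) (hs : IsClosed ({s} : Set C))
    (h : Nonempty ((Scheme.Modules.pullback (f.fiberι s)).obj N ≅ Coh.structureModule (f.fiber s))) :
    Nontrivial (CohIII.fiberH f N (genericPoint C) 0) := by
  have h1 := trivial_local k hdimC hregC f hN hlk e s hs h
  let η := genericPoint C
  have hsp : η ⤳ s := genericPoint_specializes s
  let m : f.fiber η ⟶ pullback f (C.fromSpecStalk s) :=
    pullback.lift (f.fiberι η) (f.fiberToSpecResidueField η ≫ Spec.map (C.residue η) ≫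
      Spec.map (C.presheaf.stalkSpecializes hsp)) (by
      rw [Category.assoc, Category.assoc, Scheme.SpecMap_stalkSpecializes_fromSpecStalk]
      exact (pullback.condition (f := f) (g := C.fromSpecResidueField η)))
  have hm : m ≫ pullback.fst f (C.fromSpecStalk s) = f.fiberι η := pullback.lift_fst _ _ _
  obtain ⟨e1⟩ := pull_trivial hm h1
  have hF := isField_fiber f η
  have hne : (Fdesc.LocGen.one ⊤ : Γ(Coh.structureModule (f.fiber η), ⊤)) ≠ 0 := by
    intro h0
    have h2 : (1 : Γ(f.fiber η, ⊤)) = 0 :=
      (Fdesc.LocGen.isGen_one (X := f.fiber η) ⊤).ext (a := 1) (b := 0) (by rw [h0, smul_zero, smul_zero])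
    obtain ⟨a, b, hab⟩ := hF.exists_pair_ne
    exact hab (by rw [← mul_one a, ← mul_one b, h2, mul_zero, mul_zero])
  have h3 : Nontrivial (Coh.HH (f.fiber η) (Coh.structureModule (f.fiber η)) 0) :=
    ⟨⟨(CurvesB.HZero.equivAdd _).symm (Fdesc.LocGen.one ⊤), 0, by
      rwa [Ne, (CurvesB.HZero.equivAdd (Coh.structureModule (f.fiber η))).symm.map_eq_zero_iff]⟩⟩
  exact (VarietyA.EulerLES.equivΓ e1 0).toEquiv.nontrivial

include k hdimC hregC in
/-- A torsion invertible module nontrivial on one fibre has no sections on any fibre. -/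
theorem subsingleton_h0 [CompactSpace C] [HasInjectiveResolutions S.Modules] {N : S.Modules}
    (hN : PicF.IsInvertible N) {l : ℕ} (hlk : (l : k) ≠ 0)
    (e : Nonempty (CohB1.tensorPow N l ≅ Coh.structureModule S)) (p : C)
    (hp : ¬ Nonempty ((Scheme.Modules.pullback (f.fiberι p)).obj N ≅ Coh.structureModule (f.fiber p))) (y : C) :
    Subsingleton (CohIII.fiberH f N y 0) := by
  have hl : 0 < l := Nat.pos_of_ne_zero (by rintro rfl; exact hlk (by simp))
  have hNc := S2329.isCoh_of_isInvertible hN
  have hfl := FlatInv.isFlatOver_of_isInvertible f hN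
  have hop := isOpen_van f N hNc hfl 0
  have hpm : Subsingleton (CohIII.fiberH f N p 0) := by
    rw [← not_nontrivial_iff_subsingleton]
    exact fun h => hp (trivial_of_section f hN hl e p h)
  have hη : Subsingleton (CohIII.fiberH f N (genericPoint C) 0) :=
    (genericPoint_specializes p).mem_open hop hpm
  have hcl : ∀ s : C, IsClosed ({s} : Set C) → Subsingleton (CohIII.fiberH f N s 0) := by
    intro s hs
    rw [← not_nontrivial_iff_subsingleton]
    intro h
    have h1 := trivial_of_section f hN hl e s h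
    have h2 := nontrivial_generic k hdimC hregC f hN hlk e s hs h1
    exact not_nontrivial_iff_subsingleton.2 hη h2
  obtain ⟨s, hs, hys⟩ := exists_closed_specializes y
  exact hys.mem_open hop (hcl s hs)

end Curve

end K456.TorsFib
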