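import Groth.Agent.Surf.K456.RelCanTw
import Groth.Agent.Surf.K456.RelCanB
import Groth.Agent.Surf.K456.TorsFib
import Groth.Agent.Ega3B.FlatRestrict
import Groth.Agent.S2385

/-!
# Direct image of the relative canonical module twisted by a torsion invertible module (K456)

Semistable fibration `f : S ⟶ C` of genus `g`, `η^l ≅ O` nontrivial on one closed fibre:
`f_*(ω_{S/C} ⊗ η)` is locally free of rank `g - 1` and has the degree of `f_* ω_{S/C}`.
-/

set_option autoImplicit false
universe u
open CategoryTheory CategoryTheory.Limits AlgebraicGeometry TopologicalSpace Opposite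

namespace K456.RelCan

open Groth.Agent K707.Base K707.Deg K707.TensL K707.Slope K456.CurveTw K456.LerayTw
  Groth.Agent.VarietyA.DegRank Groth.Agent.Grpsch.PicGrp
open K456.Ruled (isProper_of_comp exists_closed_specializes)

section Van

variable {S C : Scheme.{u}} (f : S ⟶ C) [IsProper f] [IsLocallyNoetherian C] [HasInjectiveResolutions S.Modules]

/-- `R^n f_* F = 0` if `H^n` vanishes on all fibres. -/
theorem isZero_of_fibers {F : S.Modules} (hF : Coh.IsCoh F) (hfl : FlatMod.IsFlatOver f F) (n : ℕ)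
    (h : ∀ y : C, Subsingleton (CohIII.fiberH f F y n)) : IsZero ((Coh.Rpush f n).obj F) := by
  rw [VarietyB.ExactLoc.isZero_iff_stalk]
  intro y
  obtain ⟨U, hyU, hz⟩ := S2385.result f F hF hfl y n (h y)
  rw [VarietyB.ExactLoc.isZero_iff_stalk] at hz
  have h1 := hz ⟨y, hyU⟩
  exact (Ega3B.FlatRestrict.stalkEquiv U.ι ((Coh.Rpush f n).obj F) ⟨y, hyU⟩).symm.toEquiv.subsingleton

/-- The fibres of a nodal family have no cohomology in degrees at least two. -/
theorem subsingleton_fiberH (hss : Curv2.IsNodalFamily f) [Surjective f] (F : S.Modules) (y : C) (i : ℕ)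
    (hi : 2 ≤ i) : Subsingleton (CohIII.fiberH f F y i) := by
  have hne : Nonempty (f.fiber y) := by
    obtain ⟨x, hx⟩ := f.surjective y
    exact ⟨(f.fiberHomeo y).symm ⟨x, hx⟩⟩
  have hd : topologicalKrullDim (f.fiber y) = 1 :=
    CurvesB.NodalFibreH.topologicalKrullDim_eq_one_of_components (hss.2.2 y).1
  have h1 : IsProper (f.fiberToSpecResidueField y) :=
    inferInstanceAs (IsProper (pullback.snd f (C.fromSpecResidueField y)))
  have h2 := CurvesB.NodalFibreH.isNoetherian_of_isProper (C.residueField y) (f.fiber y)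
    (f.fiberToSpecResidueField y)
  have : NoetherianSpace ((f.fiber y).toTopCat) := inferInstanceAs (NoetherianSpace (f.fiber y))
  exact S0458.result (X := (f.fiber y).toTopCat) 1 hd.le _ i (by omega)

end Van

section Chi

variable (k : Type u) [Field k] {S : Scheme.{u}} [S.Over (Spec (CommRingCat.of k))]
  [IsProper (S ↘ (Spec (CommRingCat.of k)))] (hdim : topologicalKrullDim S ≤ (2 : ℕ))

include hdim in
/-- A torsion class is orthogonal to everything. -/
theorem dot_tors {a : Pic S} {l : ℕ} (hl : 0 < l) (ha : a ^ l = 1) (b : Pic S) : K464.Base.dot k S a b = 0 := by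
  have h := K464.Base.dot_pow_left k S hdim a b l
  rw [ha, K464.Base.dot_one_left] at h
  have hl' : (l : ℤ) ≠ 0 := by exact_mod_cast hl.ne'
  exact (mul_eq_zero.1 h.symm).resolve_left hl'

include hdim in
/-- Twisting by a torsion class does not change the Euler characteristic. -/
theorem chi_tors {a : Pic S} {l : ℕ} (hl : 0 < l) (ha : a ^ l = 1) (b : Pic S) :
    K464.Base.chi k S (a * b) = K464.Base.chi k S b := by
  have h1 : ∀ n : ℕ, K464.Base.chi k S (a ^ n) - K464.Base.chi k S 1 =
      n * (K464.Base.chi k S a - K464.Base.chi k S 1) := by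
    intro n
    induction n with
    | zero => rw [pow_zero]; simp
    | succ n ih =>
      rw [pow_succ', K464.Base.chi_mul, dot_tors k hdim hl ha]
      push_cast
      linarith
  have h2 := h1 l
  rw [ha, sub_self] at h2
  have hl' : (l : ℤ) ≠ 0 := by exact_mod_cast hl.ne'
  have h3 := (mul_eq_zero.1 h2.symm).resolve_left hl'
  rw [K464.Base.chi_mul, dot_tors k hdim hl ha]
  linarith

end Chi

variable (k : Type u) [Field k] [IsAlgClosed k] {S C : Scheme.{u}} [S.Over (Spec (CommRingCat.of k))]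
  [C.Over (Spec (CommRingCat.of k))] [IsProper (S ↘ (Spec (CommRingCat.of k)))]
  [Smooth (S ↘ (Spec (CommRingCat.of k)))] [IsIntegral S]
  (hdim : topologicalKrullDim S = 2) [IsProper (C ↘ (Spec (CommRingCat.of k)))]
  [Smooth (C ↘ (Spec (CommRingCat.of k)))] [IsIntegral C]
  (hdimC : topologicalKrullDim C = 1) (f : S ⟶ C)
  (hf : f ≫ (C ↘ (Spec (CommRingCat.of k))) = S ↘ (Spec (CommRingCat.of k))) [Surjective f]
  [HasInjectiveResolutions S.Modules] (hO : IsIso (ClSub.unitToPush f))
  {WS : S.Modules} (hWS : ExtPow.IsExtPow 2 (Omega.sheaf (S ↘ (Spec (CommRingCat.of k)))) WS)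
  (p : C) (hp : IsClosed ({p} : Set C)) (g : ℕ)
  (hg : Curv2.euler k S (ClSub.quotMod (f.fiberι p).ker) = 1 - (g : ℤ))
  {M : S.Modules} (hM : ClSub.IsInverseOf M ((Scheme.Modules.pullback f).obj (Omega.sheaf (C ↘ (Spec (CommRingCat.of k))))))
  (hss : Curv2.IsNodalFamily f)
  {l : ℕ} (hlk : (l : k) ≠ 0) {η : S.Modules} (hη : PicF.IsInvertible η)
  (hηl : Nonempty (CohB1.tensorPow η l ≅ Coh.structureModule S))
  (hηF : ¬ Nonempty ((Scheme.Modules.pullback (f.fiberι p)).obj η ≅ Coh.structureModule (f.fiber p)))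

include hdim hdimC hf hO hp hg hss hlk hη hηl hηF in
/-- The direct images of the inverse of `η`. -/
theorem tors_numbers {N : S.Modules} (hN : PicF.IsInvertible N)
    (e : Nonempty (CohB1.tensorMod η N ≅ Coh.structureModule S)) :
    FlatMod.IsFinLocFree ((Coh.Rpush f 1).obj N) ∧
    (rk ((Coh.Rpush f 1).obj N) : ℤ) = g - 1 ∧
    Curv2.euler k C ((Coh.Rpush f 1).obj N) = - Curv2.euler k S (Coh.structureModule S) := by
  have D : Crv k C := Crv.of_smooth hdimC
  have hcn : IsNoetherian C := K707.Deg.isNoetherian k (X := C)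
  have := isProper_of_comp k f hf
  have hgc : GeometricallyConnected f := (S2431.result f (isIso_app f hO)).2
  have hgr := TorsFib.geometricallyReduced_of_nodal f hss
  have hfl := hss.1
  have hlfp := hss.2.1
  have hregC : ∀ x : C, IsRegularLocalRing (C.presheaf.stalk x) :=
    FibDiv.isRegular_of_smooth (C ↘ (Spec (CommRingCat.of k)))
  have hl : 0 < l := Nat.pos_of_ne_zero (by rintro rfl; exact hlk (by simp))
  have hηN : mk N hN = (mk η hη)⁻¹ := exists_inverse_pow hη hN e
  have hpow : mk η hη ^ l = 1 := by rw [← mk_tensorPow hη, mk_eq_one_iff]; exact hηl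
  have hNl : mk N hN ^ l = 1 := by rw [hηN, inv_pow, hpow, inv_one]
  have hNl' : Nonempty (CohB1.tensorPow N l ≅ Coh.structureModule S) := by
    rw [← mk_tensorPow hN, mk_eq_one_iff] at hNl; exact hNl
  have hNF : ¬ Nonempty ((Scheme.Modules.pullback (f.fiberι p)).obj N ≅ Coh.structureModule (f.fiber p)) := by
    intro h
    apply hηF
    have h1 : pull (f.fiberι p) (mk N hN) = 1 := by rw [pull_mk, mk_eq_one_iff]; exact h
    rw [hηN, map_inv, inv_eq_one, pull_mk, mk_eq_one_iff] at h1
    exact h1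
  have hNc := coh_inv hN
  have hNfl := FlatInv.isFlatOver_of_isInvertible f hN
  have hv0 : ∀ y : C, Subsingleton (CohIII.fiberH f N y 0) := fun y =>
    TorsFib.subsingleton_h0 k hdimC hregC f hN hlk hNl' p hNF y
  have hRv := (S2389.result f N hNc hNfl 1 (fun y i hi => by
    rcases Nat.lt_or_ge i 2 with h | h
    · obtain rfl : i = 0 := by omega
      exact hv0 y
    · exact subsingleton_fiberH f hss N y i h)).1
  have h0 : IsZero ((Coh.Rpush f 0).obj N) := isZero_of_fibers f hNc hNfl 0 hv0
  have hI : PicF.IsInvertible (ClSub.idealMod (C.fromSpecResidueField p).ker) :=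
    Dix.IdealModCartier.isInvertible_idealMod (FibDiv.isEff_point hdimC hregC p hp)
  have hd := Ruled.deg_point k C hdimC hregC p hp
  rw [← dg_of_rank k (rank_one_iff.mpr hI)] at hd
  have hR := coh_Rpush k f hf hNc 1
  have hdim' : topologicalKrullDim S ≤ (2 : ℕ) := by rw [hdim]; rfl
  -- the Euler characteristic of `R`
  have e0 := euler_eq k hdim hdimC f hf hNc
  rw [VarietyA.LerayEuler.euler_eq_zero_of_isZero k C h0] at e0
  have e1 : Curv2.euler k S N = Curv2.euler k S (Coh.structureModule S) := by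
    have h := chi_tors k hdim' hl hNl 1
    rw [mul_one, K464.Base.chi_mk, K464.Base.chi_one] at h
    exact h
  -- twist by a point
  have e2 := euler_twN k hdim hdimC f hf hN hI
  have hz : IsZero (CohB1.tensorMod ((Coh.Rpush f 0).obj N) (ClSub.idealMod (C.fromSpecResidueField p).ker)) :=
    (T (ClSub.idealMod (C.fromSpecResidueField p).ker)).map_isZero h0
  rw [VarietyA.LerayEuler.euler_eq_zero_of_isZero k C hz] at e2
  obtain ⟨ei⟩ := FibDiv.pullback_ideal_point f p hdimC hregC hp
  have hIp := Fdesc.LocGen.isInvertible_pullback f hI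
  have e3 : Curv2.euler k S (CohB1.tensorMod N
      ((Scheme.Modules.pullback f).obj (ClSub.idealMod (C.fromSpecResidueField p).ker))) =
      Curv2.euler k S (ClSub.idealMod (f.fiberι p).ker) := by
    rw [← K464.Base.chi_mk k S (Fdesc.LocGen.isInvertible_tensorMod hN hIp), ← mk_mul_mk hN hIp,
      chi_tors k hdim' hl hNl, K464.Base.chi_mk, VarietyA.EulerAdd.euler_congr k ei]
  rw [K464.Base.euler_quotMod k S] at hg
  have h1 := dg_tw D hR hI
  rw [hd, dg, dg, rk_tw hR hI] at h1
  refine ⟨hRv, ?_, ?_⟩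
  · linarith
  · linarith

include hdim hdimC hf hO hWS hp hg hM hss hlk hηl hηF hη in
theorem push_tors (hg1 : 1 ≤ g) :
    FlatMod.IsFinLocFreeOfRank (g - 1) ((Coh.push f).obj (CohB1.tensorMod (CohB1.tensorMod WS M) η)) ∧
    Curv2.euler k C ((Coh.push f).obj (CohB1.tensorMod (CohB1.tensorMod WS M) η)) - ((g : ℤ) - 1) * Curv2.euler k C (Coh.structureModule C) =
      Curv2.euler k C ((Coh.push f).obj (CohB1.tensorMod WS M)) - (g : ℤ) * Curv2.euler k C (Coh.structureModule C) := by
  have D : Crv k C := Crv.of_smooth hdimC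
  have hcn : IsNoetherian C := K707.Deg.isNoetherian k (X := C)
  have hregC : ∀ x : C, IsRegularLocalRing (C.presheaf.stalk x) :=
    FibDiv.isRegular_of_smooth (C ↘ (Spec (CommRingCat.of k)))
  have hΩ := isInvertible_Omega k hdimC
  have hMi := isInvertible_of_isInverseOf (Fdesc.LocGen.isInvertible_pullback f hΩ) hM
  have hWSi := Adj.isInvertible_canonical k hdim hWS
  obtain ⟨N, hN, ⟨e⟩⟩ := Grpsch.PicGrp.exists_inverse hη
  obtain ⟨hRv, hrk, hchi⟩ := tors_numbers k hdim hdimC f hf hO p hp g hg hss hlk hη hηl hηF hN ⟨e⟩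
  have hL := Fdesc.LocGen.isInvertible_tensorMod hMi hη
  have hinv : mk (CohB1.tensorMod M η) hL *
      (mk N hN * pull f (mk (Omega.sheaf (C ↘ (Spec (CommRingCat.of k)))) hΩ)) = 1 := by
    have h1 : mk M hMi * pull f (mk _ hΩ) = 1 := by rw [pull_mk, mk_mul_mk, mk_eq_one_iff]; exact hM
    rw [exists_inverse_pow hη hN ⟨e⟩, ← mk_mul_mk hMi hη, mul_assoc, mul_inv_cancel_left, h1]
  obtain ⟨c1, c2⟩ := mainLF k hdim hdimC f hf hWS D hregC hWSi p hp hΩ hN hL hinv hRv
  have hV := vb_push k hdim f hf D (Fdesc.LocGen.isInvertible_tensorMod hWSi hL)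
  let i : (Coh.Rpush f 0).obj (CohB1.tensorMod WS (CohB1.tensorMod M η)) ≅
      (Coh.push f).obj (CohB1.tensorMod (CohB1.tensorMod WS M) η) :=
    (Scheme.Modules.pushforward f).rightDerivedZeroIsoSelf.app _ ≪≫
      (Scheme.Modules.pushforward f).mapIso (Ega2.Tens.assoc WS M η).symm
  have hrk' : rk ((Coh.Rpush f 0).obj (CohB1.tensorMod WS (CohB1.tensorMod M η))) = g - 1 := by
    rw [c1]; omega
  refine ⟨?_, ?_⟩
  · have h3 := isFinLocFreeOfRank_rk hV
    rw [hrk'] at h3
    exact rank_iso i h3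
  · rw [deg_push k hdim hdimC f hf hO hWS p hp g hg hM hss, ← VarietyA.EulerAdd.euler_congr k i]
    have h0 := VarietyA.CurveFin.finrank_h0_structure k C
    have hq := CurvesC.CurveCoh.euler_eq k C hdimC (Coh.structureModule C)
    have hq1 : Module.finrank k (Coh.HH C (Coh.structureModule C) 1) = Curv2.genus k C := rfl
    rw [h0, hq1] at hq
    have hO' := (S1612.result k C ⟨inferInstance, inferInstance, inferInstance, hdimC⟩ h0).2
    rw [← dg_of_rank k (rank_one_iff.mpr hΩ)] at hO'
    rw [dg, dg, c1, hrk, hO', hchi, hq] at c2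
    rw [hq]
    push_cast at c2 ⊢
    linarith

end K456.RelCan
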