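import Groth.Agent.Surf.K456.RelCanTors
import Groth.Agent.Surf.K458.FibDiv

/-!
# Plurigenera of a fibration of a surface over a curve (K456)

* `subsingleton_closed`, `subsingleton_fibre`: an invertible module of nonpositive degree on the components of the
  fibres and of negative degree on the fibres has no sections on the fibres.
* `euler_push_pow`: `χ(f_* ω_{X/C}^n) = χ(X, ω_{X/C}^n)` if `ω_{X/C}` is nonnegative on vertical curves.
* `main`: `deg f_* ω_{X/C}^n = C(n,2) (ω_{X/C} · ω_{X/C}) + deg f_* ω_{X/C}`.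
-/

set_option autoImplicit false
universe u
open CategoryTheory CategoryTheory.Limits AlgebraicGeometry TopologicalSpace Opposite

namespace K456.PluriCan

open Groth.Agent Groth.Agent.Grpsch.PicGrp Groth.Agent.Fga.PicMon
open K464.Base K464.Curves K464.DegCurve K464.PtCurve K464.FibCurve K458.FibZar

section Deg

variable (k : Type u) [Field k] {X Y : Scheme.{u}} [X.Over (Spec (CommRingCat.of k))]
  [Y.Over (Spec (CommRingCat.of k))] (j : Y ⟶ X) [IsClosedImmersion j]
  (hj : j ≫ (X ↘ Spec (CommRingCat.of k)) = Y ↘ Spec (CommRingCat.of k))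

include hj in
/-- The degree of the restriction to a closed subscheme. -/
theorem degC_pull (a : Pic X) : degC k Y (pull j a) = degOn k X j.ker a := by
  obtain ⟨L, hL, rfl⟩ := exists_mk a
  rw [pull_mk, degC_mk, degOn_eq_deg]
  let _ := overC k X j.ker
  exact CurvesC.DegIso.deg_restrict k j j.ker.subschemeι hj rfl (asIso j.toImage) j.toImage_imageι L 1

/-- A curve on a closed subscheme is a curve on the ambient scheme. -/
theorem exists_curve {Γ : Y.IdealSheafData} (hΓ : IsCurve Γ) :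
    ∃ C : X.IdealSheafData, IsCurve C ∧ j.ker ≤ C ∧ Γ = C.comap j := by
  have := hΓ.integral
  let i := Γ.subschemeι ≫ j
  have e : Γ.subscheme ≅ i.ker.subscheme := asIso i.toImage
  have hC : IsCurve i.ker := by
    have hne : Nonempty i.ker.subscheme := ⟨e.hom (genericPoint _)⟩
    refine ⟨isIntegral_of_isOpenImmersion e.inv, ?_⟩
    rw [← dim_sub, ← hΓ.dim, ← dim_sub]
    exact IsHomeomorph.topologicalKrullDim_eq _ (Scheme.homeoOfIso e.symm).isHomeomorph
  have hle : j.ker ≤ i.ker := Scheme.Hom.le_ker_comp _ _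
  refine ⟨i.ker, hC, hle, eq_of_gp_mem hΓ (K458.Ram2.isCurve_comap j hC hle) ?_⟩
  rw [Scheme.IdealSheafData.support_comap]
  change j (gp hΓ) ∈ i.ker.support
  exact i.range_subset_ker_support ⟨genericPoint _, rfl⟩

end Deg

section Fib

variable (k : Type u) [Field k] [IsAlgClosed k] {X B : Scheme.{u}} [X.Over (Spec (CommRingCat.of k))]
  [B.Over (Spec (CommRingCat.of k))] [IsProper (X ↘ Spec (CommRingCat.of k))] [IsProper (B ↘ Spec (CommRingCat.of k))]
  (f : X ⟶ B) (hf : f ≫ (B ↘ Spec (CommRingCat.of k)) = X ↘ Spec (CommRingCat.of k))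

theorem ker_fiberι {b : B} (hb : IsClosed ({b} : Set B)) : (f.fiberι b).ker = (pt hb).comap f := by
  have : IsClosedImmersion (B.fromSpecResidueField b) := isClosed_singleton_iff_isClosedImmersion.mp hb
  rw [K456.FibDiv.ker_fiberι]
  congr 1
  rw [Models.H50.PointInter.ker_eq_vanishingIdeal]
  congr 1
  apply Closeds.ext
  rw [Closeds.coe_closure, Scheme.range_fromSpecResidueField, hb.closure_eq]
  rfl

variable [Smooth (X ↘ Spec (CommRingCat.of k))] [IsIntegral X] (hdim : topologicalKrullDim X = 2)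
  [Smooth (B ↘ Spec (CommRingCat.of k))] [IsIntegral B] (hdimB : topologicalKrullDim B = 1)

include hf hdim hdimB in
theorem subsingleton_closed [IsDominant f] (hconn : IsIso (ClSub.unitToPush f)) {b : B} (hb : IsClosed ({b} : Set B))
    {N : X.Modules} (hN : PicF.IsInvertible N) (hneg : degOn k X ((pt hb).comap f) (mk N hN) < 0)
    (hcomp : ∀ C : X.IdealSheafData, IsCurve C → (pt hb).comap f ≤ C → degOn k X C (mk N hN) ≤ 0) :
    Subsingleton (CohIII.fiberH f N b 0) := by
  have : IsClosedImmersion (B.fromSpecResidueField b) := isClosed_singleton_iff_isClosedImmersion.mp hb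
  have hcl : IsClosedImmersion (f.fiberι b) := inferInstanceAs (IsClosedImmersion (pullback.fst f _))
  let _ : (f.fiber b).Over (Spec (CommRingCat.of k)) := ⟨f.fiberι b ≫ (X ↘ Spec (CommRingCat.of k))⟩
  have hp : IsProper ((f.fiber b) ↘ Spec (CommRingCat.of k)) :=
    inferInstanceAs (IsProper (f.fiberι b ≫ (X ↘ Spec (CommRingCat.of k))))
  have hker := ker_fiberι f hb
  have hN' := Fdesc.LocGen.isInvertible_pullback (f.fiberι b) hN
  refine K458.FibDiv.h0_of_neg k f hf hdim hdimB hconn hb 1 (f.fiberι b) rfl (by rw [pow_one, hker]) hN' ?_ ?_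
  · have h := degC_pull k (f.fiberι b) rfl (mk N hN)
    rw [hker, pull_mk, degC_mk] at h
    rw [h]
    exact hneg
  · intro Γ hΓ
    obtain ⟨C, hC, hle, rfl⟩ := exists_curve (f.fiberι b) hΓ
    have h := K458.Ram2.degOn_comap (f.fiberι b) k rfl hle (mk N hN)
    rw [pull_mk] at h
    rw [h]
    exact hcomp C hC (hker ▸ hle)

end Fib

section Fib2

variable (k : Type u) [Field k] [IsAlgClosed k] {S C : Scheme.{u}} [S.Over (Spec (CommRingCat.of k))]
  [C.Over (Spec (CommRingCat.of k))] [IsProper (S ↘ (Spec (CommRingCat.of k)))]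
  [Smooth (S ↘ (Spec (CommRingCat.of k)))] [IsIntegral S]
  (hdim : topologicalKrullDim S = 2) [IsProper (C ↘ (Spec (CommRingCat.of k)))]
  [Smooth (C ↘ (Spec (CommRingCat.of k)))] [IsIntegral C]
  (hdimC : topologicalKrullDim C = 1) (f : S ⟶ C)
  (hf : f ≫ (C ↘ (Spec (CommRingCat.of k))) = S ↘ (Spec (CommRingCat.of k))) [Surjective f]
  [HasInjectiveResolutions S.Modules] (hO : IsIso (ClSub.unitToPush f))
  {WS : S.Modules} (hWS : ExtPow.IsExtPow 2 (Omega.sheaf (S ↘ (Spec (CommRingCat.of k)))) WS)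
  {M : S.Modules} (hM : ClSub.IsInverseOf M ((Scheme.Modules.pullback f).obj (Omega.sheaf (C ↘ (Spec (CommRingCat.of k))))))

open K456.CurveTw K456.LerayTw K456.RelCan K707.Base K707.Deg K707.TensL K707.Slope
open K456.Ruled (isProper_of_comp exists_closed_specializes)

include hdim hdimC hf hO in
/-- An invertible module which is nonpositive on the components of the closed fibres and negative on the closed fibres
has no sections on the fibres. -/
theorem subsingleton_fibre {N : S.Modules} (hN : PicF.IsInvertible N)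
    (hneg : ∀ (b : C) (hb : IsClosed ({b} : Set C)), degOn k S ((pt hb).comap f) (mk N hN) < 0)
    (hcomp : ∀ (b : C) (hb : IsClosed ({b} : Set C)) (D : S.IdealSheafData), IsCurve D → (pt hb).comap f ≤ D →
      degOn k S D (mk N hN) ≤ 0) (y : C) :
    Subsingleton (CohIII.fiberH f N y 0) := by
  have hcn : IsNoetherian C := K707.Deg.isNoetherian k (X := C)
  have := isProper_of_comp k f hf
  have hregC : ∀ x : C, IsRegularLocalRing (C.presheaf.stalk x) :=
    K456.FibDiv.isRegular_of_smooth (C ↘ (Spec (CommRingCat.of k)))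
  have := isProper_of_comp k f hf
  have hflat := K456.FlatCurve.flat_of_dominant f hregC hdimC.le
  have hop := TorsFib.isOpen_van f N (coh_inv hN) (FlatInv.isFlatOver_of_isInvertible f hN) 0
  obtain ⟨s, hs, hys⟩ := exists_closed_specializes y
  exact hys.mem_open hop (subsingleton_closed k f hf hdim hdimC hO hs hN (hneg s hs) (hcomp s hs))

omit [IsAlgClosed k] [HasInjectiveResolutions S.Modules] [Smooth (S ↘ (Spec (CommRingCat.of k)))]
  [IsIntegral S] in
include hdim in
theorem euler_eq_sum (F : S.Modules) : Curv2.euler k S F = (Module.finrank k (Coh.HH S F 0) : ℤ) -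
    Module.finrank k (Coh.HH S F 1) + Module.finrank k (Coh.HH S F 2) := by
  rw [← Fga.IntAdd.eulerCharLE_eq k S 2 hdim.le]
  unfold FGA.eulerCharLE
  rw [Finset.sum_range_succ, Finset.sum_range_succ, Finset.sum_range_one]
  ring

omit [IsAlgClosed k] [HasInjectiveResolutions S.Modules] in
include hdim hWS in
/-- `χ(L) = χ(ω ⊗ L⁻¹)`. -/
theorem euler_dual {L L' : S.Modules} (hL : PicF.IsInvertible L)
    (e : Nonempty (CohB1.tensorMod L L' ≅ Coh.structureModule S)) :
    Curv2.euler k S (CohB1.tensorMod WS L') = Curv2.euler k S L := by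
  have : IsNoetherian S := K707.Deg.isNoetherian k (X := S)
  have : SmoothOfRelativeDimension 2 (S ↘ Spec (CommRingCat.of k)) :=
    K455.RelDim.smoothOfRelativeDimension k _ 2 (Adj.dim_components hdim)
  have h := fun (m p : ℕ) (hmp : m + p = 2) => K461.SerreDual.finrank_eq k 2 hWS e (coh_inv hL).1 m p hmp
  rw [euler_eq_sum k hdim, euler_eq_sum k hdim, h 0 2 rfl, h 1 1 rfl, h 2 0 rfl]
  ring

omit [IsAlgClosed k] [HasInjectiveResolutions S.Modules] in
include hdim hWS in
theorem chi_dual (hWi : PicF.IsInvertible WS) (a : Pic S) : chi k S (mk WS hWi * a⁻¹) = chi k S a := by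
  obtain ⟨L, hL, rfl⟩ := exists_mk a
  obtain ⟨L', hL', ⟨e⟩⟩ := Grpsch.PicGrp.exists_inverse hL
  rw [← exists_inverse_pow hL hL' ⟨e⟩, mk_mul_mk, chi_mk, chi_mk]
  exact euler_dual k hdim hWS hL ⟨e⟩

omit [IsAlgClosed k] [HasInjectiveResolutions S.Modules] in
include hdim hWS in
/-- Riemann-Roch. -/
theorem rr (hWi : PicF.IsInvertible WS) (a : Pic S) :
    2 * chi k S a = dot k S a a - dot k S a (mk WS hWi) + 2 * chi k S 1 := by
  have h1 := chi_mul k S a (mk WS hWi * a⁻¹)
  have h2 := chi_dual k hdim hWS hWi 1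
  rw [inv_one, mul_one] at h2
  rw [mul_comm (mk WS hWi), mul_inv_cancel_left, h2, mul_comm a⁻¹, chi_dual k hdim hWS hWi,
    dot_mul_right k S hdim.le, dot_inv_right k S hdim.le] at h1
  linarith

include hdim hdimC hf hO hWS hM in
theorem push_pow (hss : Curv2.IsNodalFamily f) (hWi : PicF.IsInvertible WS) (hMi : PicF.IsInvertible M)
    (n : ℕ) (hn : 2 ≤ n)
    (hpos : ∀ (b : C) (hb : IsClosed ({b} : Set C)), 0 < degOn k S ((pt hb).comap f) (mk WS hWi * mk M hMi))
    (hcomp : ∀ (b : C) (hb : IsClosed ({b} : Set C)) (D : S.IdealSheafData), IsCurve D → (pt hb).comap f ≤ D →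
      0 ≤ degOn k S D (mk WS hWi * mk M hMi)) :
    Curv2.euler k C ((Coh.push f).obj (CohB1.tensorPow (CohB1.tensorMod WS M) n)) =
      chi k S ((mk WS hWi * mk M hMi) ^ n) := by
  have D : Crv k C := Crv.of_smooth hdimC
  have hcn : IsNoetherian C := K707.Deg.isNoetherian k (X := C)
  have := isProper_of_comp k f hf
  have hlfp := hss.2.1
  have hfl := hss.1
  have hΩ := isInvertible_Omega k hdimC
  set w := mk WS hWi * mk M hMi with hw
  obtain ⟨N, hN, hNw⟩ := exists_mk (mk WS hWi * (w ^ n)⁻¹)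
  obtain ⟨L, hL, ⟨e⟩⟩ := Grpsch.PicGrp.exists_inverse hN
  have hLN := exists_inverse_pow hN hL ⟨e⟩
  have hMΩ : mk M hMi * pull f (mk _ hΩ) = 1 := by rw [pull_mk, mk_mul_mk, mk_eq_one_iff]; exact hM
  have hWw : mk WS hWi = w * pull f (mk _ hΩ) := by rw [hw, mul_assoc, hMΩ, mul_one]
  obtain ⟨n', rfl⟩ : ∃ n', n = n' + 1 := ⟨n - 1, by omega⟩
  have hNw' : mk N hN = (w ^ n')⁻¹ * pull f (mk _ hΩ) := by
    rw [← hNw, hWw, pow_succ, mul_inv, mul_right_comm, mul_comm w, mul_assoc (w ^ n')⁻¹, inv_mul_cancel, mul_one]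
  have hdeg : ∀ (b : C) (hb : IsClosed ({b} : Set C)) (D : S.IdealSheafData) (hD : BlowUp.IsEffCartierIdeal D),
      (pt hb).comap f ≤ D → degOn k S D (mk N hN) = - (n' : ℤ) * degOn k S D w := by
    intro b hb D hD hle
    have h1 := degOn_pull_eq_zero k f hf hb hle (mk _ hΩ)
    rw [degOn_eq_neg_dot k S hD] at h1
    rw [hNw', degOn_eq_neg_dot k S hD, degOn_eq_neg_dot k S hD, dot_mul_right k S hdim.le, dot_inv_right k S hdim.le,
      dot_pow_right k S hdim.le]
    linarith
  have hregC : ∀ x : C, IsRegularLocalRing (C.presheaf.stalk x) :=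
    K456.FibDiv.isRegular_of_smooth (C ↘ (Spec (CommRingCat.of k)))
  have hFE : ∀ (b : C) (hb : IsClosed ({b} : Set C)), BlowUp.IsEffCartierIdeal ((pt hb).comap f) := fun b hb =>
    isEff_fibre f hdimC hb (isEff_pt k (C ↘ Spec (CommRingCat.of k)) hdimC hregC hb)
  have hv0 : ∀ y : C, Subsingleton (CohIII.fiberH f N y 0) := by
    refine subsingleton_fibre k hdim hdimC f hf hO hN ?_ ?_
    · intro b hb
      rw [hdeg b hb _ (hFE b hb) le_rfl]
      have h1 := hpos b hb
      have h2 : (1 : ℤ) ≤ n' := by exact_mod_cast (by omega : 1 ≤ n')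
      nlinarith
    · intro b hb D hD hle
      rw [hdeg b hb _ (isEff_of_smooth k hdim hD) hle]
      have h1 := hcomp b hb D hD hle
      have h2 : (0 : ℤ) ≤ n' := by positivity
      nlinarith
  have hNc := coh_inv hN
  have hNfl := FlatInv.isFlatOver_of_isInvertible f hN
  have hRv := (S2389.result f N hNc hNfl 1 (fun y i hi => by
    rcases Nat.lt_or_ge i 2 with h | h
    · obtain rfl : i = 0 := by omega
      exact hv0 y
    · exact subsingleton_fiberH f hss N y i h)).1
  have h0 : IsZero ((Coh.Rpush f 0).obj N) := isZero_of_fibers f hNc hNfl 0 hv0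
  have e0 := euler_eq k hdim hdimC f hf hNc
  rw [VarietyA.LerayEuler.euler_eq_zero_of_isZero k C h0] at e0
  have h1 := (push_dual k hdim hdimC f hf hWS hWi hN hL ⟨e⟩ hRv).2
  have h2 : mk _ (Fdesc.LocGen.isInvertible_tensorMod hWi hL) =
      mk _ (Fdesc.LocGen.isInvertible_tensorPow (Fdesc.LocGen.isInvertible_tensorMod hWi hMi) (n' + 1)) := by
    rw [mk_tensorPow (Fdesc.LocGen.isInvertible_tensorMod hWi hMi), ← mk_mul_mk hWi hMi, ← mk_mul_mk hWi hL, hLN, ← hNw,
      mul_inv, inv_inv, mul_inv_cancel_left]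
  obtain ⟨e2⟩ := (mk_eq_iff _ _).1 h2
  rw [← VarietyA.EulerAdd.euler_congr k ((Coh.push f).mapIso e2), h1, ← chi_dual k hdim hWS hWi, hNw, chi_mk]
  linarith

omit [HasInjectiveResolutions S.Modules] in
include hdim hdimC hf hWS hM in
/-- The degree of the relative canonical class on the fibres. -/
theorem degOn_relCan (hWi : PicF.IsInvertible WS) (hMi : PicF.IsInvertible M) (p : C) (hp : IsClosed ({p} : Set C)) (g : ℤ)
    (hg : Curv2.euler k S (ClSub.quotMod (f.fiberι p).ker) = 1 - g) (b : C) (hb : IsClosed ({b} : Set C)) :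
    degOn k S ((pt hb).comap f) (mk WS hWi * mk M hMi) = 2 * g - 2 := by
  have hcn : IsNoetherian C := K707.Deg.isNoetherian k (X := C)
  have hregC : ∀ x : C, IsRegularLocalRing (C.presheaf.stalk x) :=
    K456.FibDiv.isRegular_of_smooth (C ↘ (Spec (CommRingCat.of k)))
  have := isProper_of_comp k f hf
  have hflat := K456.FlatCurve.flat_of_dominant f hregC hdimC.le
  have hFE : BlowUp.IsEffCartierIdeal ((pt hp).comap f) :=
    isEff_fibre f hdimC hp (isEff_pt k (C ↘ Spec (CommRingCat.of k)) hdimC hregC hp)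
  have hΩ := isInvertible_Omega k hdimC
  have hMΩ : mk M hMi * pull f (mk _ hΩ) = 1 := by rw [pull_mk, mk_mul_mk, mk_eq_one_iff]; exact hM
  have hMΩ' : mk M hMi = pull f (mk _ hΩ)⁻¹ := by rw [map_inv]; exact eq_inv_of_mul_eq_one_left hMΩ
  rw [mk_mul_mk hWi hMi, degOn_fibre k f hf hb (Fdesc.LocGen.isInvertible_tensorMod hWi hMi) hdim.le,
    ← degOn_fibre k f hf hp (Fdesc.LocGen.isInvertible_tensorMod hWi hMi) hdim.le, ← mk_mul_mk hWi hMi,
    degOn_eq_neg_dot k S hFE, dot_mul_right k S hdim.le]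
  have h1 := Adj.adjunction k hdim hWS hWi hFE
  rw [ker_fiberι f hp] at hg
  rw [hg] at h1
  have h2 : dot k S (ic ((pt hp).comap f) hFE) (mk M hMi) = 0 := by
    have h3 := degOn_pull_eq_zero k f hf hp (le_refl _) (mk _ hΩ)⁻¹
    rw [← hMΩ', degOn_eq_neg_dot k S hFE] at h3
    linarith
  have h4 : dot k S (ic ((pt hp).comap f) hFE) (ic ((pt hp).comap f) hFE) = 0 := by
    rw [← pull_ic f (isEff_pt k (C ↘ Spec (CommRingCat.of k)) hdimC hregC hp) hFE]
    exact dot_pull_pull k f hf hdim.le hdimC hregC _ _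
  linarith

include hdim hdimC hf hO hWS hM in
/-- The degree of `f_* ω_{S/C}^n`. -/
theorem main (hss : Curv2.IsNodalFamily f) (hWi : PicF.IsInvertible WS) (hMi : PicF.IsInvertible M)
    (p : C) (hp : IsClosed ({p} : Set C)) (g : ℕ) (hg2 : 2 ≤ g)
    (hg : Curv2.euler k S (ClSub.quotMod (f.fiberι p).ker) = 1 - (g : ℤ)) (n : ℕ) (hn : 2 ≤ n)
    (hcomp : ∀ (b : C) (hb : IsClosed ({b} : Set C)) (D : S.IdealSheafData), IsCurve D → (pt hb).comap f ≤ D →
      0 ≤ degOn k S D (mk WS hWi * mk M hMi)) :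
    Curv2.euler k C ((Coh.push f).obj (CohB1.tensorPow (CohB1.tensorMod WS M) n)) -
        ((2 * (n : ℤ) - 1) * ((g : ℤ) - 1)) * Curv2.euler k C (Coh.structureModule C) =
      (n.choose 2 : ℤ) * dot k S (mk WS hWi * mk M hMi) (mk WS hWi * mk M hMi) +
        (Curv2.euler k C ((Coh.push f).obj (CohB1.tensorMod WS M)) -
          (g : ℤ) * Curv2.euler k C (Coh.structureModule C)) := by
  have hcn : IsNoetherian C := K707.Deg.isNoetherian k (X := C)
  have hregC : ∀ x : C, IsRegularLocalRing (C.presheaf.stalk x) :=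
    K456.FibDiv.isRegular_of_smooth (C ↘ (Spec (CommRingCat.of k)))
  have := isProper_of_comp k f hf
  have hflat := K456.FlatCurve.flat_of_dominant f hregC hdimC.le
  have hΩ := isInvertible_Omega k hdimC
  have hfib := degOn_relCan k hdim hdimC f hf hWS hM hWi hMi p hp g hg
  have hg2' : (2 : ℤ) ≤ g := by exact_mod_cast hg2
  have h1 := push_pow k hdim hdimC f hf hO hWS hM hss hWi hMi n hn
    (fun b hb => by rw [hfib b hb]; linarith) hcomp
  have h2 := rr k hdim hWS hWi ((mk WS hWi * mk M hMi) ^ n)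
  have hMΩ : mk M hMi * pull f (mk _ hΩ) = 1 := by rw [pull_mk, mk_mul_mk, mk_eq_one_iff]; exact hM
  have h3 : dot k S (mk WS hWi * mk M hMi) (pull f (mk _ hΩ)) = degC k C (mk _ hΩ) * (2 * g - 2) := by
    rw [dot_comm, mk_mul_mk hWi hMi, dot_pull k f hf hdim.le hdimC hregC _ (Fdesc.LocGen.isInvertible_tensorMod hWi hMi),
      ← degOn_fibre k f hf hp (Fdesc.LocGen.isInvertible_tensorMod hWi hMi) hdim.le, ← mk_mul_mk hWi hMi, hfib p hp]
  have hWw : mk WS hWi = mk WS hWi * mk M hMi * pull f (mk _ hΩ) := by rw [mul_assoc, hMΩ, mul_one]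
  have h4 : dot k S (mk WS hWi * mk M hMi) (mk WS hWi) =
      dot k S (mk WS hWi * mk M hMi) (mk WS hWi * mk M hMi) + degC k C (mk _ hΩ) * (2 * g - 2) := by
    conv_lhs => rw [hWw, ← hWw]
    rw [← h3, ← dot_mul_right k S hdim.le, ← hWw]
  rw [dot_pow_left k S hdim.le, dot_pow_right k S hdim.le, dot_pow_left k S hdim.le, h4, chi_one] at h2
  have h5 := deg_push k hdim hdimC f hf hO hWS p hp g hg hM hss
  have h0 := VarietyA.CurveFin.finrank_h0_structure k C
  have hq := CurvesC.CurveCoh.euler_eq k C hdimC (Coh.structureModule C)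
  have hq1 : Module.finrank k (Coh.HH C (Coh.structureModule C) 1) = Curv2.genus k C := rfl
  rw [h0, hq1] at hq
  have hO' := (S1612.result k C ⟨inferInstance, inferInstance, inferInstance, hdimC⟩ h0).2
  rw [degC_mk, hO'] at h2
  have hch : (n.choose 2 : ℤ) * 2 = n * ((n : ℤ) - 1) := by
    have h := Nat.choose_two_right n
    have h' : n.choose 2 * 2 = n * (n - 1) := by
      rw [h]
      exact Nat.div_mul_cancel (Nat.even_mul_pred_self n).two_dvd
    have h'' : ((n.choose 2 * 2 : ℕ) : ℤ) = ((n * (n - 1) : ℕ) : ℤ) := by rw [h']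
    push_cast [Nat.cast_sub (by omega : 1 ≤ n)] at h''
    exact h''
  rw [h1]
  rw [hq] at h5 ⊢
  push_cast at h5 h2 ⊢
  rw [h5]
  have h6 : 2 * ((n.choose 2 : ℤ) * dot k S (mk WS hWi * mk M hMi) (mk WS hWi * mk M hMi)) =
      n * ((n : ℤ) - 1) * dot k S (mk WS hWi * mk M hMi) (mk WS hWi * mk M hMi) := by
    rw [← hch]; ring
  nlinarith [h2, h6]

end Fib2

end K456.PluriCan
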