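import Groth.Agent.Surf.K456.CurveTw
import Groth.Agent.Surf.K456.LerayC
import Groth.Agent.Surf.K456.Resol
import Groth.Agent.Surf.K456.FibDiv
import Groth.Agent.Surf.K456.Ruled
import Groth.Agent.Surf.K464.Base
import Groth.Agent.FormalA.Support
import Groth.Agent.S0927
import Groth.Agent.S0458
import Groth.Agent.S0016

/-!
# A proper surface over a curve: Leray for twists by the base (K456)

`f : S ⟶ C`, `S` an integral proper surface, `C` a smooth proper curve, `f_* O_S = O_C`, `R = R¹f_* O_S`.

* `isZero_Rpush_two`: `R^i f_* F = 0` for `i ≥ 2` and `F` coherent.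
* `h2_tw`: `h²(S, f^* B) = h¹(C, R ⊗ B)`; `euler_tw`: `χ(S, f^* B) = χ(C, B) - χ(C, R ⊗ B)`.
* `rk_R`: the rank of `R` is the genus of the closed fibres.
-/

set_option autoImplicit false
universe u
open CategoryTheory CategoryTheory.Limits AlgebraicGeometry TopologicalSpace Opposite

namespace K456.LerayTw

open Groth.Agent K707.Base K707.Deg K707.TensL K456.CurveTw Groth.Agent.VarietyA.DegRank
open K456.Ruled (isProper_of_comp exists_closed_specializes)

variable (k : Type u) [Field k] {S C : Scheme.{u}} [S.Over (Spec (CommRingCat.of k))]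
  [C.Over (Spec (CommRingCat.of k))] [IsProper (S ↘ (Spec (CommRingCat.of k)))] [IsIntegral S]
  (hdim : topologicalKrullDim S = 2) [IsProper (C ↘ (Spec (CommRingCat.of k)))] [IsIntegral C]
  (hdimC : topologicalKrullDim C = 1) (f : S ⟶ C)
  (hf : f ≫ (C ↘ (Spec (CommRingCat.of k))) = S ↘ (Spec (CommRingCat.of k))) [Surjective f]
  [HasInjectiveResolutions S.Modules]

include hf in
theorem coh_Rpush {F : S.Modules} (hF : Coh.IsCoh F) (i : ℕ) : Coh.IsCoh ((Coh.Rpush f i).obj F) := by
  have : IsNoetherian C := K707.Deg.isNoetherian k (X := C)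
  have := isProper_of_comp k f hf
  exact S0036.result f F hF i

include hdim hdimC hf in
/-- The higher direct images in degrees at least two vanish. -/
theorem isZero_Rpush_two {F : S.Modules} (hF : Coh.IsCoh F) (i : ℕ) (hi : 2 ≤ i) :
    IsZero ((Coh.Rpush f i).obj F) := by
  have : IsNoetherian C := K707.Deg.isNoetherian k (X := C)
  have := isProper_of_comp k f hf
  have hR := coh_Rpush k f hf hF i
  refine CohqB.DevSupport.isZero_of_support_eq_empty (Set.eq_empty_of_forall_notMem fun z hz => ?_)
  obtain ⟨y, hy, hzy⟩ := exists_closed_specializes z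
  have hcl := FormalA.Support.isClosed_support _ hR.2
  have hys : y ∈ CohB1.support ((Coh.Rpush f i).obj F) := hzy.mem_closed hcl hz
  obtain ⟨s, hs⟩ := f.surjective (genericPoint C)
  have hne : f s ≠ y := by
    rw [hs]
    exact fun h => FibDiv.ne_genericPoint hdimC y hy h.symm
  have h1 := Resol.fiber_le_one f hdim hy hne
  have hz2 : Limits.IsZero (TopCat.Presheaf.stalk
      ((Coh.RpushAb f i).obj (Coh.toAb F)).obj y) := S0042.result f y 1 h1 _ hF i (by omega)
  obtain ⟨e⟩ := Ega4B.RpushCompare.rpush_iso_rpushAb f F i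
  revert hys
  rw [imp_false, CohqB.DevSupport.not_mem_support_iff_isZero]
  exact hz2.of_iso ((TopCat.Sheaf.forget _ _ ⋙ TopCat.Presheaf.stalkFunctor _ y).mapIso e)

omit [IsIntegral S] [IsIntegral C] [Surjective f] in
/-- The projection formula for modules pulled back from the base. -/
theorem rpushTw {B : C.Modules} (hB : PicF.IsInvertible B) (i : ℕ) :
    Nonempty ((Coh.Rpush f i).obj ((Scheme.Modules.pullback f).obj B) ≅
      CohB1.tensorMod ((Coh.Rpush f i).obj (Coh.structureModule S)) B) := by
  obtain ⟨e⟩ := S0927.result f (Coh.structureModule S) B (vb_of_inv hB) i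
  exact ⟨(Coh.Rpush f i).mapIso (Ega2.Tens.runit _).symm ≪≫ e.symm ≪≫ Ega2.Tens.swap _ _⟩

/-- The projection formula with a module on the source. -/
theorem rpushTw' {B : C.Modules} (hB : PicF.IsInvertible B) (F : S.Modules) (i : ℕ) :
    Nonempty ((Coh.Rpush f i).obj (CohB1.tensorMod F ((Scheme.Modules.pullback f).obj B)) ≅
      CohB1.tensorMod ((Coh.Rpush f i).obj F) B) := by
  obtain ⟨e⟩ := S0927.result f F B (vb_of_inv hB) i
  exact ⟨(Coh.Rpush f i).mapIso (Ega2.Tens.swap _ _) ≪≫ e.symm ≪≫ Ega2.Tens.swap _ _⟩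

variable (hO : IsIso (ClSub.unitToPush f))

include hO in
theorem rpushTw_zero {B : C.Modules} (hB : PicF.IsInvertible B) :
    Nonempty ((Coh.Rpush f 0).obj ((Scheme.Modules.pullback f).obj B) ≅ B) := by
  obtain ⟨e⟩ := rpushTw f hB 0
  let e' : (Coh.Rpush f 0).obj (Coh.structureModule S) ≅ Coh.structureModule C :=
    (Scheme.Modules.pushforward f).rightDerivedZeroIsoSelf.app (Coh.structureModule S) ≪≫
      (asIso (ClSub.unitToPush f)).symm
  exact ⟨e ≪≫ Ega2.Tens.mapTIso e' (Iso.refl _) ≪≫ Ega2.Tens.lunit _⟩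

include hdim hdimC hf in
/-- `h²` of a coherent module. -/
theorem h2_eq {F : S.Modules} (hF : Coh.IsCoh F) :
    Module.finrank k (Coh.HH S F 2) = Module.finrank k (Coh.HH C ((Coh.Rpush f 1).obj F) 1) := by
  have : IsNoetherian C := K707.Deg.isNoetherian k (X := C)
  have : IsNoetherian S := K707.Deg.isNoetherian k (X := S)
  have hC2 : ∀ (F : C.Modules) (n : ℕ), Subsingleton (Coh.HH C F (n + 2)) := fun F n => by
    have : NoetherianSpace (C.toTopCat) := inferInstanceAs (NoetherianSpace C)
    exact S0458.result (X := C.toTopCat) 1 hdimC.le _ _ (by omega)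
  have hXq : QuasiSeparatedSpace S :=
    (quasiSeparated_iff_quasiSeparatedSpace (S ↘ (Spec (CommRingCat.of k)))).mp inferInstance
  obtain ⟨M, hM⟩ := S0016.result S
  rw [LerayC.finrank_HH_succ f k hf F M hC2 (fun n => S0002.result k S F hF n)
    (fun n hn => hM F hF.1 n hn) (fun i n => S0002.result k C _ (coh_Rpush k f hf hF i) n) 1]
  have h1 : Subsingleton (Coh.HH C ((Coh.Rpush f (1 + 1)).obj F) 0) :=
    VarietyA.LerayEuler.subsingleton_of_isZero C (isZero_Rpush_two k hdim hdimC f hf hF 2 le_rfl) 0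
  have h2 : Module.finrank k (Coh.HH C ((Coh.Rpush f (1 + 1)).obj F) 0) = 0 :=
    Module.finrank_zero_of_subsingleton
  rw [h2, zero_add]

include hdim hdimC hf in
theorem h2_tw {B : C.Modules} (hB : PicF.IsInvertible B) :
    Module.finrank k (Coh.HH S ((Scheme.Modules.pullback f).obj B) 2) =
      Module.finrank k (Coh.HH C (CohB1.tensorMod ((Coh.Rpush f 1).obj (Coh.structureModule S)) B) 1) := by
  have hBc : Coh.IsCoh ((Scheme.Modules.pullback f).obj B) :=
    coh_inv (Fdesc.LocGen.isInvertible_pullback f hB)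
  obtain ⟨e⟩ := rpushTw f hB 1
  rw [h2_eq k hdim hdimC f hf hBc]
  exact (VarietyA.EulerLES.equivA k e 1).finrank_eq

include hdim hdimC hf in
theorem euler_eq {F : S.Modules} (hF : Coh.IsCoh F) :
    Curv2.euler k S F = Curv2.euler k C ((Coh.Rpush f 0).obj F) - Curv2.euler k C ((Coh.Rpush f 1).obj F) := by
  have := isProper_of_comp k f hf
  rw [S1525.result k C S f hf F hF]
  have h0 : ∀ i, 2 ≤ i → Curv2.euler k C ((Coh.Rpush f i).obj F) = 0 :=
    fun i hi => VarietyA.LerayEuler.euler_eq_zero_of_isZero k C (isZero_Rpush_two k hdim hdimC f hf hF i hi)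
  rw [finsum_eq_sum_of_support_subset (s := Finset.range 2)]
  · rw [Finset.sum_range_succ, Finset.sum_range_one, pow_zero, one_mul, pow_one]
    ring
  · intro i hi
    rw [Function.mem_support] at hi
    rw [Finset.coe_range, Set.mem_Iio]
    by_contra hlt
    exact hi (by rw [h0 i (by lia), mul_zero])

include hdim hdimC hf hO in
theorem euler_tw {B : C.Modules} (hB : PicF.IsInvertible B) :
    Curv2.euler k S ((Scheme.Modules.pullback f).obj B) = Curv2.euler k C B -
      Curv2.euler k C (CohB1.tensorMod ((Coh.Rpush f 1).obj (Coh.structureModule S)) B) := by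
  have hBc : Coh.IsCoh ((Scheme.Modules.pullback f).obj B) :=
    coh_inv (Fdesc.LocGen.isInvertible_pullback f hB)
  obtain ⟨e⟩ := rpushTw f hB 1
  obtain ⟨e'⟩ := rpushTw_zero f hO hB
  rw [euler_eq k hdim hdimC f hf hBc, VarietyA.EulerAdd.euler_congr k e, VarietyA.EulerAdd.euler_congr k e']

include hdim hdimC hf hO in
theorem euler_structure :
    Curv2.euler k S (Coh.structureModule S) = Curv2.euler k C (Coh.structureModule C) -
      Curv2.euler k C ((Coh.Rpush f 1).obj (Coh.structureModule S)) := by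
  have hcoh : Coh.IsCoh (Coh.structureModule S) := CurvesB.UnitCoh.isCoh_structureModule S
  let e' : (Coh.Rpush f 0).obj (Coh.structureModule S) ≅ Coh.structureModule C :=
    (Scheme.Modules.pushforward f).rightDerivedZeroIsoSelf.app (Coh.structureModule S) ≪≫
      (asIso (ClSub.unitToPush f)).symm
  rw [euler_eq k hdim hdimC f hf hcoh, VarietyA.EulerAdd.euler_congr k e']

include hdim hdimC hf hO in
/-- The rank of `R¹f_* O_S` is the genus of the fibres. -/
theorem rk_R [IsAlgClosed k] (hregC : ∀ x : C, IsRegularLocalRing (C.presheaf.stalk x)) (D : Crv k C)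
    (p : C) (hp : IsClosed ({p} : Set C)) (g : ℕ)
    (hg : Curv2.euler k S (ClSub.quotMod (f.fiberι p).ker) = 1 - (g : ℤ)) :
    rk ((Coh.Rpush f 1).obj (Coh.structureModule S)) = g := by
  have hcn : IsNoetherian C := K707.Deg.isNoetherian k (X := C)
  have hcoh : Coh.IsCoh (Coh.structureModule S) := CurvesB.UnitCoh.isCoh_structureModule S
  have hR := coh_Rpush k f hf hcoh 1
  have hI : PicF.IsInvertible (ClSub.idealMod (C.fromSpecResidueField p).ker) :=
    Dix.IdealModCartier.isInvertible_idealMod (FibDiv.isEff_point hdimC hregC p hp)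
  have hd := Ruled.deg_point k C hdimC hregC p hp
  rw [← dg_of_rank k (rank_one_iff.mpr hI)] at hd
  obtain ⟨e⟩ := FibDiv.pullback_ideal_point f p hdimC hregC hp
  rw [K464.Base.euler_quotMod k S, ← VarietyA.EulerAdd.euler_congr k e, euler_tw k hdim hdimC f hf hO hI,
    euler_structure k hdim hdimC f hf hO] at hg
  have h1 := dg_tw D hR hI
  rw [hd, dg, dg, rk_tw hR hI] at h1
  rw [dg, rk_one hI] at hd
  push_cast at hd
  have : (rk ((Coh.Rpush f 1).obj (Coh.structureModule S)) : ℤ) = g := by linarith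
  exact_mod_cast this

end K456.LerayTw
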