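import Groth.Agent.VBCurve.K707.MaxSlope
import Groth.Agent.VBCurve.K707.TensL
import Groth.Agent.CurvesB.HZero
import Groth.Agent.S1530
import Groth.Agent.S0051

/-!
# Twists of coherent modules on a curve by powers of line bundles (K456)

* `dg_tw`, `rk_tw`: degree and rank of `M ⊗ A^n`.
* `exists_h1_zero`: `H¹(M ⊗ A^n) = 0` for `n ≫ 0` when `deg A > 0`.
* `exists_h0_zero`: `H⁰(E ⊗ (W ⊗ I^n)) = 0` for `n ≫ 0` when `deg I < 0`, `E` locally free.
* `finrank_h0_tw`: `h⁰(M ⊗ (W ⊗ I^n)) = deg T` for `n ≫ 0`, `T` the torsion of `M`.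
-/

set_option autoImplicit false
universe u
open CategoryTheory CategoryTheory.Limits AlgebraicGeometry TopologicalSpace Opposite

namespace K456.CurveTw

open Groth.Agent Groth.Agent.VarietyA.DegRank K707.Base K707.Deg K707.Slope K707.Semi K707.TensL
  K707.MaxSlope

variable {k : Type u} [Field k] {X : Scheme.{u}} [X.Over (Spec (CommRingCat.of k))]
  [IsIntegral X] [IsProper (X ↘ (Spec (CommRingCat.of k)))]

theorem rk_one {L : X.Modules} (hL : PicF.IsInvertible L) : rk L = 1 :=
  rk_of_rank (rank_one_iff.mpr hL)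

theorem coh_inv {L : X.Modules} (hL : PicF.IsInvertible L) : Coh.IsCoh L :=
  isCoh_of_rank (rank_one_iff.mpr hL)

theorem coh_tw {M L : X.Modules} (hM : Coh.IsCoh M) (hL : PicF.IsInvertible L) :
    Coh.IsCoh (CohB1.tensorMod M L) := coh_tensor (rank_one_iff.mpr hL) hM

theorem rk_tw {M L : X.Modules} (hM : Coh.IsCoh M) (hL : PicF.IsInvertible L) :
    rk (CohB1.tensorMod M L) = rk M := by
  rw [rk_tensor (rank_one_iff.mpr hL) hM, one_mul]

theorem dg_tw (C : Crv k X) {M L : X.Modules} (hM : Coh.IsCoh M) (hL : PicF.IsInvertible L) :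
    dg k (CohB1.tensorMod M L) = dg k M + rk M * dg k L := by
  rw [dg_tensor k C.dim (rank_one_iff.mpr hL) hM, Nat.cast_one, one_mul]

theorem dg_structure (C : Crv k X) : dg k (Coh.structureModule X) = 0 := by
  rw [dg, rk_one Fdesc.LocGen.isInvertible_structureModule]
  ring

theorem dg_pow (C : Crv k X) {L : X.Modules} (hL : PicF.IsInvertible L) (n : ℕ) :
    dg k (CohB1.tensorPow L n) = n * dg k L := by
  induction n with
  | zero =>
    change dg k (Coh.structureModule X) = _
    rw [dg_structure C]; simp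
  | succ n ih =>
    have hn := Fdesc.LocGen.isInvertible_tensorPow hL n
    change dg k (CohB1.tensorMod (CohB1.tensorPow L n) L) = _
    rw [dg_tw C (coh_inv hn) hL, ih, rk_one hn]
    push_cast
    ring

theorem dg_inverse (C : Crv k X) {L L' : X.Modules} (hL : PicF.IsInvertible L) (hL' : PicF.IsInvertible L')
    (e : CohB1.tensorMod L L' ≅ Coh.structureModule X) : dg k L' = - dg k L := by
  have h := dg_iso k e
  rw [dg_structure C, dg_tw C (coh_inv hL) hL', rk_one hL] at h
  push_cast at h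
  linarith

/-- A nonzero map from the structure sheaf to a vector bundle is injective. -/
theorem mono_of_ne_zero (C : Crv k X) {E : X.Modules} (hE : FlatMod.IsFinLocFree E)
    (s : Coh.structureModule X ⟶ E) (hs : s ≠ 0) : Mono s := by
  have hO : PicF.IsInvertible (Coh.structureModule X) := Fdesc.LocGen.isInvertible_structureModule
  have hOc := coh_inv hO
  have hEc := coh_of_vb hE
  obtain ⟨I, p, i, hp, hi, hpi, hI, h1, -, -, -⟩ := exists_factor (k := k) C s hOc hEc
  have hIv := vb_of_mono C i hI hE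
  have hI0 : rk I ≠ 0 := by
    intro h0
    apply hs
    rw [← hpi, (isZero_of_rk_eq_zero C hIv h0).eq_of_tgt p 0, zero_comp]
  rw [rk_one hO] at h1
  have hK0 : rk (kernel s) = 0 := by omega
  have hKz := isZero_of_rk_eq_zero C (vb_kernel C s (vb_of_inv hO) hEc) hK0
  exact Preadditive.mono_of_isZero_kernel s hKz

/-- Vanishing of `H¹` of large twists. -/
theorem exists_h1_zero (C : Crv k X) {M A : X.Modules} (hM : Coh.IsCoh M) (hA : PicF.IsInvertible A)
    (hd : 0 < dg k A) : ∃ N : ℕ, ∀ n, N ≤ n →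
      Subsingleton (Coh.HH X (CohB1.tensorMod M (CohB1.tensorPow A n)) 1) := by
  have hamp : CohB1.IsAmple A := (S1530.result k X C.dim A hA).2 (by
    rwa [← dg_of_rank k (rank_one_iff.mpr hA)])
  obtain ⟨N, hN⟩ := (S0051.result k X (X ↘ (Spec (CommRingCat.of k))) A hA).1 hamp M hM
  exact ⟨N, fun n hn => hN n hn 1 one_pos⟩

/-- Vanishing of `H⁰` of very negative twists. -/
theorem exists_h0_zero (C : Crv k X) {E W I : X.Modules} (hE : FlatMod.IsFinLocFree E)
    (hW : PicF.IsInvertible W) (hI : PicF.IsInvertible I) (hd : dg k I < 0) : ∃ N : ℕ, ∀ n, N ≤ n →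
      Subsingleton (Coh.HH X (CohB1.tensorMod E (CohB1.tensorMod W (CohB1.tensorPow I n))) 0) := by
  have hEc := coh_of_vb hE
  obtain ⟨b, hb0, hb⟩ := exists_dg_le (k := k) C hEc
  refine ⟨(b + |dg k W| + 1).toNat, fun n hn => ?_⟩
  have hn' : b + |dg k W| + 1 ≤ n := Int.toNat_le.mp hn
  have hIn := Fdesc.LocGen.isInvertible_tensorPow hI n
  have hB : PicF.IsInvertible (CohB1.tensorMod W (CohB1.tensorPow I n)) :=
    Fdesc.LocGen.isInvertible_tensorMod hW hIn
  have hBd : dg k (CohB1.tensorMod W (CohB1.tensorPow I n)) = dg k W + n * dg k I := by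
    rw [dg_tw C (coh_inv hW) hIn, rk_one hW, dg_pow C hI]
    push_cast
    ring
  obtain ⟨B', hB', ⟨e⟩⟩ := Grpsch.PicGrp.exists_inverse hB
  have hB'd := dg_inverse C hB hB' e
  rw [← not_nontrivial_iff_subsingleton]
  intro hnt
  obtain ⟨x, hx⟩ := exists_ne (0 : Coh.HH X (CohB1.tensorMod E (CohB1.tensorMod W (CohB1.tensorPow I n))) 0)
  let y := CurvesB.HZero.equivAdd (CohB1.tensorMod E (CohB1.tensorMod W (CohB1.tensorPow I n))) x
  have hy : y ≠ 0 := by
    intro h
    exact hx ((CurvesB.HZero.equivAdd _).injective (by rw [map_zero]; exact h))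
  let s : Coh.structureModule X ⟶ CohB1.tensorMod E (CohB1.tensorMod W (CohB1.tensorPow I n)) :=
    Fdesc.LocGen.homOf y
  have hs : s ≠ 0 := by
    intro h
    apply hy
    have h1 : Fdesc.LocGen.sec s ⊤ = y := by rw [Fdesc.LocGen.sec_homOf, Fdesc.LocGen.res_refl]
    rw [← h1, h]
    rfl
  have hln := isLocNoeth C
  have hEB := vb_tensor hE (vb_of_inv hB)
  have hm := mono_of_ne_zero C hEB s hs
  have hT := preservesFiniteLimits (vb_of_inv hB')
  have hm2 : Mono ((T B').map s) := inferInstance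
  let a : (T B').obj (CohB1.tensorMod E (CohB1.tensorMod W (CohB1.tensorPow I n))) ≅ E :=
    (PerfB.TensInv.tensorInvIso e).app E
  let t : (T B').obj (Coh.structureModule X) ⟶ E := (T B').map s ≫ a.hom
  have hm3 : Mono t := mono_comp _ _
  have hO : PicF.IsInvertible (Coh.structureModule X) := Fdesc.LocGen.isInvertible_structureModule
  have h1 : dg k ((T B').obj (Coh.structureModule X)) ≤ b := hb _ t hm3 (coh_tw (coh_inv hO) hB')
  have h2 : dg k ((T B').obj (Coh.structureModule X)) =
      dg k (Coh.structureModule X) + rk (Coh.structureModule X) * dg k B' := dg_tw C (coh_inv hO) hB'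
  rw [h2, dg_structure C, rk_one hO, hB'd, hBd] at h1
  push_cast at h1
  have h3 : (n : ℤ) ≤ - (n * dg k I) := by nlinarith
  have h4 := le_abs_self (dg k W)
  linarith

/-- The number of sections of very negative twists is the degree of the torsion. -/
theorem exists_finrank_h0_tw (C : Crv k X) {W I : X.Modules} (S : ShortComplex X.Modules) (hS : S.ShortExact)
    (h1 : Coh.IsCoh S.X₁) (h3 : FlatMod.IsFinLocFree S.X₃)
    (hT : Subsingleton (S.X₁.presheaf.stalk (genericPoint X)))
    (hW : PicF.IsInvertible W) (hI : PicF.IsInvertible I) (hd : dg k I < 0) : ∃ N : ℕ, ∀ n, N ≤ n →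
      (Module.finrank k (Coh.HH X (CohB1.tensorMod S.X₂ (CohB1.tensorMod W (CohB1.tensorPow I n))) 0) : ℤ) =
        dg k S.X₁ := by
  obtain ⟨N, hN⟩ := exists_h0_zero C h3 hW hI hd
  refine ⟨N, fun n hn => ?_⟩
  have hB : PicF.IsInvertible (CohB1.tensorMod W (CohB1.tensorPow I n)) :=
    Fdesc.LocGen.isInvertible_tensorMod hW (Fdesc.LocGen.isInvertible_tensorPow hI n)
  have h30 := hN n hn
  revert hB h30
  generalize CohB1.tensorMod W (CohB1.tensorPow I n) = B
  intro hB h30
  have hTB := preservesFiniteLimits (vb_of_inv hB)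
  have hS' : (S.map (T B)).ShortExact := hS.map_of_exact (T B)
  have hrk : rk (CohB1.tensorMod S.X₁ B) = 0 := by
    rw [rk_tw h1 hB]
    exact rk_eq_zero_of_subsingleton hT
  have hc1 := coh_tw h1 hB
  have hsub := subsingleton_of_rk_eq_zero hc1 hrk
  have e1 := euler_of_torsion k C.dim hc1 hsub
  have e2 : Curv2.euler k X (CohB1.tensorMod S.X₁ B) = dg k S.X₁ := by
    rw [← dg_eq_euler_of_torsion k hsub, dg_tw C h1 hB, rk_eq_zero_of_subsingleton hT]
    simp
  have hinj := VarietyA.EulerLES.injectiveA₀ k _ hS'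
  have hex := VarietyA.EulerLES.exactA₂ k _ hS' 0
  have hsurj : Function.Surjective (VarietyA.EulerLES.mapA k (S.map (T B)).f 0) := fun x =>
    (hex x).1 (@Subsingleton.elim _ h30 _ _)
  have e3 := (LinearEquiv.ofBijective _ ⟨hinj, hsurj⟩).finrank_eq
  change Module.finrank k (Coh.HH X (CohB1.tensorMod S.X₁ B) 0) =
    Module.finrank k (Coh.HH X (CohB1.tensorMod S.X₂ B) 0) at e3
  rw [← e3, ← e1, e2]

end K456.CurveTw
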