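import Groth.Agent.Surf.K456.LerayTw
import Groth.Agent.Surf.K456.Adj
import Groth.Agent.Surf.K461.SerreDual
import Groth.Agent.Ega2.TensMon
import Groth.Agent.S2288

/-!
# The relative canonical module of a surface over a curve (K456)

`f : S ⟶ C` with `f_* O_S = O_C`, `V = f_*(ω_S ⊗ (f^*ω_C)^{-1})`, `R = R¹ f_* O_S`:
`V` is locally free, `rk V = rk R` and `deg V = deg T - deg R - rk R (deg ω_C + 2 χ(O_C))`, `T` the torsion of `R`.
-/

set_option autoImplicit false
universe u
open CategoryTheory CategoryTheory.Limits AlgebraicGeometry TopologicalSpace Opposite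

namespace K456.RelCan

open Groth.Agent K707.Base K707.Deg K707.TensL K707.Slope K456.CurveTw K456.LerayTw
  Groth.Agent.VarietyA.DegRank Groth.Agent.Grpsch.PicGrp
open K456.Ruled (isProper_of_comp exists_closed_specializes)

theorem isInvertible_of_iso {X : Scheme.{u}} {L L' : X.Modules} (e : L ≅ L') (h : PicF.IsInvertible L) :
    PicF.IsInvertible L' := fun x => by
  obtain ⟨U, hx, ⟨e'⟩⟩ := h x
  exact ⟨U, hx, ⟨(Scheme.Modules.restrictFunctor U.ι).mapIso e.symm ≪≫ e'⟩⟩

theorem isInvertible_of_isInverseOf {X : Scheme.{u}} {L M : X.Modules} (hL : PicF.IsInvertible L)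
    (hM : ClSub.IsInverseOf M L) : PicF.IsInvertible M := by
  obtain ⟨e⟩ := hM
  obtain ⟨L', hL', ⟨e'⟩⟩ := Grpsch.PicGrp.exists_inverse hL
  let θ := (PerfB.TensInv.tensorInvIso e').app M
  let i : M ≅ L' := θ.symm ≪≫ (DCoh.tensorRightMod L').mapIso e ≪≫ Ega2.Tens.lunit L'
  exact isInvertible_of_iso i.symm hL'

theorem exists_inverse_pow {X : Scheme.{u}} {A I : X.Modules} (hA : PicF.IsInvertible A) (hI : PicF.IsInvertible I)
    (e : Nonempty (CohB1.tensorMod A I ≅ Coh.structureModule X)) : mk I hI = (mk A hA)⁻¹ := by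
  have h : mk A hA * mk I hI = 1 := by rw [mk_mul_mk, mk_eq_one_iff]; exact e
  exact eq_inv_of_mul_eq_one_right h

/-- The inverse of the twist of the pull-back. -/
theorem inverse_iso {S C : Scheme.{u}} (f : S ⟶ C) {Ω A I : C.Modules} (hΩ : PicF.IsInvertible Ω)
    (hA : PicF.IsInvertible A) (hI : PicF.IsInvertible I)
    (e : Nonempty (CohB1.tensorMod A I ≅ Coh.structureModule C)) {M : S.Modules}
    (hMi : PicF.IsInvertible M) (hM : ClSub.IsInverseOf M ((Scheme.Modules.pullback f).obj Ω)) (n : ℕ) :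
    Nonempty (CohB1.tensorMod ((Scheme.Modules.pullback f).obj (CohB1.tensorMod Ω (CohB1.tensorPow I n)))
      (CohB1.tensorMod M ((Scheme.Modules.pullback f).obj (CohB1.tensorPow A n))) ≅ Coh.structureModule S) := by
  have hIn := Fdesc.LocGen.isInvertible_tensorPow hI n
  have hAn := Fdesc.LocGen.isInvertible_tensorPow hA n
  have h1 := Fdesc.LocGen.isInvertible_pullback f (Fdesc.LocGen.isInvertible_tensorMod hΩ hIn)
  have h2 := Fdesc.LocGen.isInvertible_tensorMod hMi (Fdesc.LocGen.isInvertible_pullback f hAn)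
  have h3 : mk _ h1 * mk _ h2 = 1 := by
    rw [← mk_mul_mk hMi (Fdesc.LocGen.isInvertible_pullback f hAn), ← pull_mk f hAn,
      ← pull_mk f (Fdesc.LocGen.isInvertible_tensorMod hΩ hIn), ← mk_mul_mk hΩ hIn, mk_tensorPow hA, mk_tensorPow hI, exists_inverse_pow hA hI e, map_mul, map_pow, map_pow,
      map_inv]
    have h4 : mk M hMi = (pull f (mk Ω hΩ))⁻¹ := by
      have h5 : mk M hMi * pull f (mk Ω hΩ) = 1 := by
        rw [pull_mk, mk_mul_mk, mk_eq_one_iff]; exact hM
      exact eq_inv_of_mul_eq_one_left h5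
    rw [h4, mul_mul_mul_comm, mul_inv_cancel, inv_pow, inv_mul_cancel, one_mul]
  rw [mk_mul_mk, mk_eq_one_iff] at h3
  exact h3

section

variable (k : Type u) [Field k] [IsAlgClosed k] {S C : Scheme.{u}} [S.Over (Spec (CommRingCat.of k))]
  [C.Over (Spec (CommRingCat.of k))] [IsProper (S ↘ (Spec (CommRingCat.of k)))]
  [Smooth (S ↘ (Spec (CommRingCat.of k)))] [IsIntegral S]
  (hdim : topologicalKrullDim S = 2) [IsProper (C ↘ (Spec (CommRingCat.of k)))] [IsIntegral C]
  (hdimC : topologicalKrullDim C = 1) (f : S ⟶ C)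
  (hf : f ≫ (C ↘ (Spec (CommRingCat.of k))) = S ↘ (Spec (CommRingCat.of k))) [Surjective f]
  [HasInjectiveResolutions S.Modules] (hO : IsIso (ClSub.unitToPush f))
  {WS : S.Modules} (hWS : ExtPow.IsExtPow 2 (Omega.sheaf (S ↘ (Spec (CommRingCat.of k)))) WS)

include hdim hWS in
/-- Serre duality on the surface. -/
theorem serre {L L' : S.Modules} (hL : PicF.IsInvertible L)
    (e : Nonempty (CohB1.tensorMod L L' ≅ Coh.structureModule S)) :
    Module.finrank k (Coh.HH S L 2) = Module.finrank k (Coh.HH S (CohB1.tensorMod WS L') 0) := by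
  have : IsNoetherian S := K707.Deg.isNoetherian k (X := S)
  have : SmoothOfRelativeDimension 2 (S ↘ Spec (CommRingCat.of k)) :=
    K455.RelDim.smoothOfRelativeDimension k _ 2 (Adj.dim_components hdim)
  exact K461.SerreDual.finrank_eq k 2 hWS e (coh_inv hL).1 0 2 rfl

include hdim hdimC hf hWS in
/-- Relative duality, numerically. -/
theorem h0_eq {Ω A I : C.Modules} (hΩ : PicF.IsInvertible Ω)
    (hA : PicF.IsInvertible A) (hI : PicF.IsInvertible I)
    (e : Nonempty (CohB1.tensorMod A I ≅ Coh.structureModule C)) {M : S.Modules}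
    (hMi : PicF.IsInvertible M) (hM : ClSub.IsInverseOf M ((Scheme.Modules.pullback f).obj Ω)) (n : ℕ) :
    Module.finrank k (Coh.HH C (CohB1.tensorMod ((Coh.Rpush f 0).obj (CohB1.tensorMod WS M))
      (CohB1.tensorPow A n)) 0) =
    Module.finrank k (Coh.HH C (CohB1.tensorMod ((Coh.Rpush f 1).obj (Coh.structureModule S))
      (CohB1.tensorMod Ω (CohB1.tensorPow I n))) 1) := by
  have hIn := Fdesc.LocGen.isInvertible_tensorPow hI n
  have hAn := Fdesc.LocGen.isInvertible_tensorPow hA n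
  have hB := Fdesc.LocGen.isInvertible_tensorMod hΩ hIn
  rw [← h2_tw k hdim hdimC f hf hB,
    serre k hdim hWS (Fdesc.LocGen.isInvertible_pullback f hB) (inverse_iso f hΩ hA hI e hMi hM n)]
  obtain ⟨e1⟩ := rpushTw' f hAn (CohB1.tensorMod WS M) 0
  rw [← (VarietyA.EulerLES.equivA k e1 0).finrank_eq,
    (VarietyA.EulerLES.equivA k (((Scheme.Modules.pushforward f).rightDerivedZeroIsoSelf).app
      (CohB1.tensorMod (CohB1.tensorMod WS M) ((Scheme.Modules.pullback f).obj (CohB1.tensorPow A n)))) 0).finrank_eq,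
    ← LerayC.finrank_HH_zero f k hf]
  exact (VarietyA.EulerLES.equivA k (Ega2.Tens.assoc WS M _) 0).finrank_eq

include k hdim hf in
/-- The direct image of an invertible module is locally free. -/
theorem vb_push (D : Crv k C) {L : S.Modules} (hL : PicF.IsInvertible L) :
    FlatMod.IsFinLocFree ((Coh.Rpush f 0).obj L) := by
  have := isProper_of_comp k f hf
  have hLc := coh_inv hL
  have hc := coh_Rpush k f hf hLc 0
  refine vb_iso (((Scheme.Modules.pushforward f).rightDerivedZeroIsoSelf).app L).symm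
    (vb_of_torsionFree D (coh_iso (((Scheme.Modules.pushforward f).rightDerivedZeroIsoSelf).app L) hc) ?_)
  have := hLc.1
  exact S2288.result f L (isTorsionFree_of_isFinLocFree (vb_of_inv hL))

/-- Two affine-linear functions agreeing for large `n`. -/
theorem lin_aux {a b c d : ℤ} {N : ℕ} (h : ∀ n : ℕ, N ≤ n → a + b * n = c + d * n) : b = d ∧ a = c := by
  have h1 := h N le_rfl
  have h2 := h (N + 1) (Nat.le_succ N)
  push_cast at h2
  have : b = d := by linarith
  subst this
  exact ⟨rfl, by linarith⟩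

include hdim hdimC hf hWS in
theorem main (D : Crv k C) (hregC : ∀ x : C, IsRegularLocalRing (C.presheaf.stalk x))
    (hWSi : PicF.IsInvertible WS) (p : C) (hp : IsClosed ({p} : Set C))
    {Ω : C.Modules} (hΩ : PicF.IsInvertible Ω) {M : S.Modules}
    (hMi : PicF.IsInvertible M) (hM : ClSub.IsInverseOf M ((Scheme.Modules.pullback f).obj Ω))
    (T : ShortComplex C.Modules) (hT : T.ShortExact)
    (h1 : Coh.IsCoh T.X₁) (h3 : FlatMod.IsFinLocFree T.X₃)
    (hT0 : Subsingleton (T.X₁.presheaf.stalk (genericPoint C)))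
    (hT2 : T.X₂ = (Coh.Rpush f 1).obj (Coh.structureModule S)) :
    rk ((Coh.Rpush f 0).obj (CohB1.tensorMod WS M)) = rk ((Coh.Rpush f 1).obj (Coh.structureModule S)) ∧
    dg k ((Coh.Rpush f 0).obj (CohB1.tensorMod WS M)) = dg k T.X₁ -
      dg k ((Coh.Rpush f 1).obj (Coh.structureModule S)) -
      rk ((Coh.Rpush f 1).obj (Coh.structureModule S)) *
        (dg k Ω + 2 * Curv2.euler k C (Coh.structureModule C)) := by
  have hcn : IsNoetherian C := K707.Deg.isNoetherian k (X := C)
  have hcoh : Coh.IsCoh (Coh.structureModule S) := CurvesB.UnitCoh.isCoh_structureModule S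
  have hR := coh_Rpush k f hf hcoh 1
  have hI : PicF.IsInvertible (ClSub.idealMod (C.fromSpecResidueField p).ker) :=
    Dix.IdealModCartier.isInvertible_idealMod (FibDiv.isEff_point hdimC hregC p hp)
  have hId := Ruled.deg_point k C hdimC hregC p hp
  rw [← dg_of_rank k (rank_one_iff.mpr hI)] at hId
  revert hI hId
  generalize ClSub.idealMod (C.fromSpecResidueField p).ker = I
  intro hI hId
  obtain ⟨A, hA, ⟨e⟩⟩ := Grpsch.PicGrp.exists_inverse hI
  have hAd := dg_inverse D hI hA e
  rw [hId] at hAd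
  have e' : Nonempty (CohB1.tensorMod A I ≅ Coh.structureModule C) := ⟨Ega2.Tens.swap _ _ ≪≫ e⟩
  have hVc : Coh.IsCoh ((Coh.Rpush f 0).obj (CohB1.tensorMod WS M)) :=
    coh_Rpush k f hf (coh_inv (Fdesc.LocGen.isInvertible_tensorMod hWSi hMi)) 0
  obtain ⟨N1, hN1⟩ := exists_h1_zero D hVc hA (by rw [hAd]; norm_num)
  obtain ⟨N2, hN2⟩ := exists_finrank_h0_tw D T hT h1 h3 hT0 hΩ hI (by rw [hId]; norm_num)
  rw [hT2] at hN2
  have key : ∀ n : ℕ, max N1 N2 ≤ n →
      (dg k ((Coh.Rpush f 0).obj (CohB1.tensorMod WS M)) +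
        rk ((Coh.Rpush f 0).obj (CohB1.tensorMod WS M)) * Curv2.euler k C (Coh.structureModule C)) +
        (rk ((Coh.Rpush f 0).obj (CohB1.tensorMod WS M)) : ℤ) * n =
      (dg k T.X₁ - dg k ((Coh.Rpush f 1).obj (Coh.structureModule S)) -
        rk ((Coh.Rpush f 1).obj (Coh.structureModule S)) * dg k Ω -
        rk ((Coh.Rpush f 1).obj (Coh.structureModule S)) * Curv2.euler k C (Coh.structureModule C)) +
        (rk ((Coh.Rpush f 1).obj (Coh.structureModule S)) : ℤ) * n := by
    intro n hn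
    have hIn := Fdesc.LocGen.isInvertible_tensorPow hI n
    have hAn := Fdesc.LocGen.isInvertible_tensorPow hA n
    have hB := Fdesc.LocGen.isInvertible_tensorMod hΩ hIn
    have a1 := h0_eq k hdim hdimC f hf hWS hΩ hA hI e' hMi hM n
    have a2 : Module.finrank k (Coh.HH C (CohB1.tensorMod ((Coh.Rpush f 0).obj (CohB1.tensorMod WS M))
        (CohB1.tensorPow A n)) 1) = 0 := by
      have := hN1 n (le_trans (le_max_left _ _) hn)
      exact Module.finrank_zero_of_subsingleton
    have a3 := hN2 n (le_trans (le_max_right _ _) hn)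
    have b1 := CurvesC.CurveCoh.euler_eq k C hdimC (CohB1.tensorMod ((Coh.Rpush f 0).obj (CohB1.tensorMod WS M))
        (CohB1.tensorPow A n))
    have b2 := CurvesC.CurveCoh.euler_eq k C hdimC (CohB1.tensorMod ((Coh.Rpush f 1).obj (Coh.structureModule S))
      (CohB1.tensorMod Ω (CohB1.tensorPow I n)))
    rw [a2, a1] at b1
    rw [a3] at b2
    rw [euler_eq_dg k, dg_tw D hVc hAn, rk_tw hVc hAn, dg_pow D hA, hAd] at b1
    rw [euler_eq_dg k, dg_tw D hR hB, rk_tw hR hB, dg_tw D (coh_inv hΩ) hIn, rk_one hΩ, dg_pow D hI, hId] at b2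
    push_cast at b1 b2 ⊢
    linarith
  obtain ⟨c1, c2⟩ := lin_aux key
  have c3 : rk ((Coh.Rpush f 0).obj (CohB1.tensorMod WS M)) = rk ((Coh.Rpush f 1).obj (Coh.structureModule S)) := by
    exact_mod_cast c1
  refine ⟨c3, ?_⟩
  rw [c3] at c2
  linarith

end

end K456.RelCan
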