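import Groth.Agent.Surf.K456.RelCan

/-!
# Numerical relative duality for a surface over a curve with coefficients in an invertible module (K456)

`f : S ⟶ C`, `N` invertible on `S`, `L` the inverse of `N ⊗ f^*ω_C`, `V = f_*(ω_S ⊗ L)`, `R = R¹ f_* N`:
`V` is locally free, `rk V = rk R` and `deg V = deg T - deg R - rk R (deg ω_C + 2 χ(O_C))`, `T` the torsion of `R`.
-/

set_option autoImplicit false
universe u
open CategoryTheory CategoryTheory.Limits AlgebraicGeometry TopologicalSpace Opposite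

namespace K456.RelCan

open Groth.Agent K707.Base K707.Deg K707.TensL K707.Slope K456.CurveTw K456.LerayTw
  Groth.Agent.VarietyA.DegRank Groth.Agent.Grpsch.PicGrp
open K456.Ruled (isProper_of_comp exists_closed_specializes)

/-- The inverse of the twist of the pull-back. -/
theorem inverse_isoN {S C : Scheme.{u}} (f : S ⟶ C) {Ω A I : C.Modules} (hΩ : PicF.IsInvertible Ω)
    (hA : PicF.IsInvertible A) (hI : PicF.IsInvertible I)
    (e : Nonempty (CohB1.tensorMod A I ≅ Coh.structureModule C)) {N L : S.Modules}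
    (hN : PicF.IsInvertible N) (hL : PicF.IsInvertible L)
    (hinv : mk L hL * (mk N hN * pull f (mk Ω hΩ)) = 1) (n : ℕ) :
    Nonempty (CohB1.tensorMod
      (CohB1.tensorMod N ((Scheme.Modules.pullback f).obj (CohB1.tensorMod Ω (CohB1.tensorPow I n))))
      (CohB1.tensorMod L ((Scheme.Modules.pullback f).obj (CohB1.tensorPow A n))) ≅ Coh.structureModule S) := by
  have hIn := Fdesc.LocGen.isInvertible_tensorPow hI n
  have hAn := Fdesc.LocGen.isInvertible_tensorPow hA n
  have h0 := Fdesc.LocGen.isInvertible_pullback f (Fdesc.LocGen.isInvertible_tensorMod hΩ hIn)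
  have h1 := Fdesc.LocGen.isInvertible_tensorMod hN h0
  have h2 := Fdesc.LocGen.isInvertible_tensorMod hL (Fdesc.LocGen.isInvertible_pullback f hAn)
  have h3 : mk _ h1 * mk _ h2 = 1 := by
    rw [← mk_mul_mk hL (Fdesc.LocGen.isInvertible_pullback f hAn), ← mk_mul_mk hN h0, ← pull_mk f hAn,
      ← pull_mk f (Fdesc.LocGen.isInvertible_tensorMod hΩ hIn), ← mk_mul_mk hΩ hIn,
      mk_tensorPow hA, mk_tensorPow hI, exists_inverse_pow hA hI e, map_mul, map_pow, map_pow, map_inv]
    have h4 : mk L hL = (mk N hN * pull f (mk Ω hΩ))⁻¹ := eq_inv_of_mul_eq_one_left hinv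
    rw [h4, ← mul_assoc (mk N hN), mul_mul_mul_comm, mul_inv_cancel, inv_pow, inv_mul_cancel, one_mul]
  rw [mk_mul_mk, mk_eq_one_iff] at h3
  exact h3

section

variable (k : Type u) [Field k] [IsAlgClosed k] {S C : Scheme.{u}} [S.Over (Spec (CommRingCat.of k))]
  [C.Over (Spec (CommRingCat.of k))] [IsProper (S ↘ (Spec (CommRingCat.of k)))]
  [Smooth (S ↘ (Spec (CommRingCat.of k)))] [IsIntegral S]
  (hdim : topologicalKrullDim S = 2) [IsProper (C ↘ (Spec (CommRingCat.of k)))] [IsIntegral C]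
  (hdimC : topologicalKrullDim C = 1) (f : S ⟶ C)
  (hf : f ≫ (C ↘ (Spec (CommRingCat.of k))) = S ↘ (Spec (CommRingCat.of k))) [Surjective f]
  [HasInjectiveResolutions S.Modules]
  {WS : S.Modules} (hWS : ExtPow.IsExtPow 2 (Omega.sheaf (S ↘ (Spec (CommRingCat.of k)))) WS)

omit [IsAlgClosed k] [Smooth (S ↘ (Spec (CommRingCat.of k)))] in
include hdim hdimC hf in
theorem h2_twN {N : S.Modules} (hN : PicF.IsInvertible N) {B : C.Modules} (hB : PicF.IsInvertible B) :
    Module.finrank k (Coh.HH S (CohB1.tensorMod N ((Scheme.Modules.pullback f).obj B)) 2) =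
      Module.finrank k (Coh.HH C (CohB1.tensorMod ((Coh.Rpush f 1).obj N) B) 1) := by
  have hBc : Coh.IsCoh (CohB1.tensorMod N ((Scheme.Modules.pullback f).obj B)) :=
    coh_inv (Fdesc.LocGen.isInvertible_tensorMod hN (Fdesc.LocGen.isInvertible_pullback f hB))
  obtain ⟨e⟩ := rpushTw' f hB N 1
  rw [h2_eq k hdim hdimC f hf hBc]
  exact (VarietyA.EulerLES.equivA k e 1).finrank_eq

omit [IsAlgClosed k] [Smooth (S ↘ (Spec (CommRingCat.of k)))] in
include hdim hdimC hf in
theorem euler_twN {N : S.Modules} (hN : PicF.IsInvertible N) {B : C.Modules} (hB : PicF.IsInvertible B) :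
    Curv2.euler k S (CohB1.tensorMod N ((Scheme.Modules.pullback f).obj B)) =
      Curv2.euler k C (CohB1.tensorMod ((Coh.Rpush f 0).obj N) B) -
      Curv2.euler k C (CohB1.tensorMod ((Coh.Rpush f 1).obj N) B) := by
  have hBc : Coh.IsCoh (CohB1.tensorMod N ((Scheme.Modules.pullback f).obj B)) :=
    coh_inv (Fdesc.LocGen.isInvertible_tensorMod hN (Fdesc.LocGen.isInvertible_pullback f hB))
  obtain ⟨e⟩ := rpushTw' f hB N 1
  obtain ⟨e'⟩ := rpushTw' f hB N 0
  rw [euler_eq k hdim hdimC f hf hBc, VarietyA.EulerAdd.euler_congr k e, VarietyA.EulerAdd.euler_congr k e']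

include hdim hdimC hf hWS in
/-- Relative duality, numerically. -/
theorem h0_eqN {Ω A I : C.Modules} (hΩ : PicF.IsInvertible Ω)
    (hA : PicF.IsInvertible A) (hI : PicF.IsInvertible I)
    (e : Nonempty (CohB1.tensorMod A I ≅ Coh.structureModule C)) {N L : S.Modules}
    (hN : PicF.IsInvertible N) (hL : PicF.IsInvertible L)
    (hinv : mk L hL * (mk N hN * pull f (mk Ω hΩ)) = 1) (n : ℕ) :
    Module.finrank k (Coh.HH C (CohB1.tensorMod ((Coh.Rpush f 0).obj (CohB1.tensorMod WS L))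
      (CohB1.tensorPow A n)) 0) =
    Module.finrank k (Coh.HH C (CohB1.tensorMod ((Coh.Rpush f 1).obj N)
      (CohB1.tensorMod Ω (CohB1.tensorPow I n))) 1) := by
  have hIn := Fdesc.LocGen.isInvertible_tensorPow hI n
  have hAn := Fdesc.LocGen.isInvertible_tensorPow hA n
  have hB := Fdesc.LocGen.isInvertible_tensorMod hΩ hIn
  rw [← h2_twN k hdim hdimC f hf hN hB,
    serre k hdim hWS (Fdesc.LocGen.isInvertible_tensorMod hN (Fdesc.LocGen.isInvertible_pullback f hB))
      (inverse_isoN f hΩ hA hI e hN hL hinv n)]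
  obtain ⟨e1⟩ := rpushTw' f hAn (CohB1.tensorMod WS L) 0
  rw [← (VarietyA.EulerLES.equivA k e1 0).finrank_eq,
    (VarietyA.EulerLES.equivA k (((Scheme.Modules.pushforward f).rightDerivedZeroIsoSelf).app
      (CohB1.tensorMod (CohB1.tensorMod WS L) ((Scheme.Modules.pullback f).obj (CohB1.tensorPow A n)))) 0).finrank_eq,
    ← LerayC.finrank_HH_zero f k hf]
  exact (VarietyA.EulerLES.equivA k (Ega2.Tens.assoc WS L _) 0).finrank_eq

include hdim hdimC hf hWS in
theorem mainN (D : Crv k C) (hregC : ∀ x : C, IsRegularLocalRing (C.presheaf.stalk x))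
    (hWSi : PicF.IsInvertible WS) (p : C) (hp : IsClosed ({p} : Set C))
    {Ω : C.Modules} (hΩ : PicF.IsInvertible Ω) {N L : S.Modules}
    (hN : PicF.IsInvertible N) (hL : PicF.IsInvertible L)
    (hinv : mk L hL * (mk N hN * pull f (mk Ω hΩ)) = 1)
    (T : ShortComplex C.Modules) (hT : T.ShortExact)
    (h1 : Coh.IsCoh T.X₁) (h3 : FlatMod.IsFinLocFree T.X₃)
    (hT0 : Subsingleton (T.X₁.presheaf.stalk (genericPoint C)))
    (hT2 : T.X₂ = (Coh.Rpush f 1).obj N) :
    rk ((Coh.Rpush f 0).obj (CohB1.tensorMod WS L)) = rk ((Coh.Rpush f 1).obj N) ∧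
    dg k ((Coh.Rpush f 0).obj (CohB1.tensorMod WS L)) = dg k T.X₁ -
      dg k ((Coh.Rpush f 1).obj N) -
      rk ((Coh.Rpush f 1).obj N) *
        (dg k Ω + 2 * Curv2.euler k C (Coh.structureModule C)) := by
  have hcn : IsNoetherian C := K707.Deg.isNoetherian k (X := C)
  have hR := coh_Rpush k f hf (coh_inv hN) 1
  have hI : PicF.IsInvertible (ClSub.idealMod (C.fromSpecResidueField p).ker) :=
    Dix.IdealModCartier.isInvertible_idealMod (FibDiv.isEff_point hdimC hregC p hp)
  have hId := Ruled.deg_point k C hdimC hregC p hp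
  rw [← dg_of_rank k (rank_one_iff.mpr hI)] at hId
  revert hI hId
  generalize ClSub.idealMod (C.fromSpecResidueField p).ker = I
  intro hI hId
  obtain ⟨A, hA, ⟨e⟩⟩ := Grpsch.PicGrp.exists_inverse hI
  have hAd := dg_inverse D hI hA e
  rw [hId] at hAd
  have e' : Nonempty (CohB1.tensorMod A I ≅ Coh.structureModule C) := ⟨Ega2.Tens.swap _ _ ≪≫ e⟩
  have hVc : Coh.IsCoh ((Coh.Rpush f 0).obj (CohB1.tensorMod WS L)) :=
    coh_Rpush k f hf (coh_inv (Fdesc.LocGen.isInvertible_tensorMod hWSi hL)) 0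
  obtain ⟨N1, hN1⟩ := exists_h1_zero D hVc hA (by rw [hAd]; norm_num)
  obtain ⟨N2, hN2⟩ := exists_finrank_h0_tw D T hT h1 h3 hT0 hΩ hI (by rw [hId]; norm_num)
  rw [hT2] at hN2
  have key : ∀ n : ℕ, max N1 N2 ≤ n →
      (dg k ((Coh.Rpush f 0).obj (CohB1.tensorMod WS L)) +
        rk ((Coh.Rpush f 0).obj (CohB1.tensorMod WS L)) * Curv2.euler k C (Coh.structureModule C)) +
        (rk ((Coh.Rpush f 0).obj (CohB1.tensorMod WS L)) : ℤ) * n =
      (dg k T.X₁ - dg k ((Coh.Rpush f 1).obj N) -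
        rk ((Coh.Rpush f 1).obj N) * dg k Ω -
        rk ((Coh.Rpush f 1).obj N) * Curv2.euler k C (Coh.structureModule C)) +
        (rk ((Coh.Rpush f 1).obj N) : ℤ) * n := by
    intro n hn
    have hIn := Fdesc.LocGen.isInvertible_tensorPow hI n
    have hAn := Fdesc.LocGen.isInvertible_tensorPow hA n
    have hB := Fdesc.LocGen.isInvertible_tensorMod hΩ hIn
    have a1 := h0_eqN k hdim hdimC f hf hWS hΩ hA hI e' hN hL hinv n
    have a2 : Module.finrank k (Coh.HH C (CohB1.tensorMod ((Coh.Rpush f 0).obj (CohB1.tensorMod WS L))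
        (CohB1.tensorPow A n)) 1) = 0 := by
      have := hN1 n (le_trans (le_max_left _ _) hn)
      exact Module.finrank_zero_of_subsingleton
    have a3 := hN2 n (le_trans (le_max_right _ _) hn)
    have b1 := CurvesC.CurveCoh.euler_eq k C hdimC (CohB1.tensorMod ((Coh.Rpush f 0).obj (CohB1.tensorMod WS L))
        (CohB1.tensorPow A n))
    have b2 := CurvesC.CurveCoh.euler_eq k C hdimC (CohB1.tensorMod ((Coh.Rpush f 1).obj N)
      (CohB1.tensorMod Ω (CohB1.tensorPow I n)))
    rw [a2, a1] at b1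
    rw [a3] at b2
    rw [euler_eq_dg k, dg_tw D hVc hAn, rk_tw hVc hAn, dg_pow D hA, hAd] at b1
    rw [euler_eq_dg k, dg_tw D hR hB, rk_tw hR hB, dg_tw D (coh_inv hΩ) hIn, rk_one hΩ, dg_pow D hI, hId] at b2
    push_cast at b1 b2 ⊢
    linarith
  obtain ⟨c1, c2⟩ := lin_aux key
  have c3 : rk ((Coh.Rpush f 0).obj (CohB1.tensorMod WS L)) = rk ((Coh.Rpush f 1).obj N) := by
    exact_mod_cast c1
  refine ⟨c3, ?_⟩
  rw [c3] at c2
  linarith

include hdim hdimC hf hWS in
/-- The case of a locally free first direct image. -/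
theorem mainLF (D : Crv k C) (hregC : ∀ x : C, IsRegularLocalRing (C.presheaf.stalk x))
    (hWSi : PicF.IsInvertible WS) (p : C) (hp : IsClosed ({p} : Set C))
    {Ω : C.Modules} (hΩ : PicF.IsInvertible Ω) {N L : S.Modules}
    (hN : PicF.IsInvertible N) (hL : PicF.IsInvertible L)
    (hinv : mk L hL * (mk N hN * pull f (mk Ω hΩ)) = 1)
    (hRv : FlatMod.IsFinLocFree ((Coh.Rpush f 1).obj N)) :
    rk ((Coh.Rpush f 0).obj (CohB1.tensorMod WS L)) = rk ((Coh.Rpush f 1).obj N) ∧
    dg k ((Coh.Rpush f 0).obj (CohB1.tensorMod WS L)) = - dg k ((Coh.Rpush f 1).obj N) -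
      rk ((Coh.Rpush f 1).obj N) *
        (dg k Ω + 2 * Curv2.euler k C (Coh.structureModule C)) := by
  obtain ⟨z, hz⟩ := HasZeroObject.zero (C := C.Modules)
  have hz : IsZero z := hz
  let T : ShortComplex C.Modules :=
    ShortComplex.mk (0 : z ⟶ (Coh.Rpush f 1).obj N) (𝟙 ((Coh.Rpush f 1).obj N)) (by simp)
  have hTm : Mono T.g := inferInstanceAs (Mono (𝟙 _))
  have hT : T.ShortExact :=
    { exact := (ShortComplex.exact_iff_mono T (hz.eq_of_src _ _)).2 hTm
      mono_f := ⟨fun _ _ _ => hz.eq_of_tgt _ _⟩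
      epi_g := inferInstanceAs (Epi (𝟙 _)) }
  have h1 : Coh.IsCoh z := Sga67.CohBasic.isCoh_of_isZero hz
  have h := mainN k hdim hdimC f hf hWS D hregC hWSi p hp hΩ hN hL hinv T hT h1 hRv
    ((VarietyB.ExactLoc.isZero_iff_stalk z).1 hz _) rfl
  have hz0 : dg k z = 0 := dg_of_isZero hz
  refine ⟨h.1, ?_⟩
  have h2 := h.2
  change dg k ((Coh.Rpush f 0).obj (CohB1.tensorMod WS L)) = dg k z - _ - _ at h2
  rw [hz0] at h2
  linarith

include hdim hdimC hf hWS in
/-- Relative duality, numerically: `χ(f_*(ω_S ⊗ N⁻¹)) = - χ(R¹f_* N)` if `R¹f_* N` is locally free. -/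
theorem push_dual [Smooth (C ↘ (Spec (CommRingCat.of k)))]
    (hWSi : PicF.IsInvertible WS) {N L : S.Modules}
    (hN : PicF.IsInvertible N) (hL : PicF.IsInvertible L)
    (e : Nonempty (CohB1.tensorMod N L ≅ Coh.structureModule S))
    (hRv : FlatMod.IsFinLocFree ((Coh.Rpush f 1).obj N)) :
    FlatMod.IsFinLocFreeOfRank (rk ((Coh.Rpush f 1).obj N)) ((Coh.push f).obj (CohB1.tensorMod WS L)) ∧
    Curv2.euler k C ((Coh.push f).obj (CohB1.tensorMod WS L)) = - Curv2.euler k C ((Coh.Rpush f 1).obj N) := by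
  have D : Crv k C := Crv.of_smooth hdimC
  have hcn : IsNoetherian C := K707.Deg.isNoetherian k (X := C)
  have hregC : ∀ x : C, IsRegularLocalRing (C.presheaf.stalk x) :=
    FibDiv.isRegular_of_smooth (C ↘ (Spec (CommRingCat.of k)))
  obtain ⟨p, hp, -⟩ := exists_closed_specializes (genericPoint C)
  have hΩ : PicF.IsInvertible (Coh.structureModule C) := Fdesc.LocGen.isInvertible_structureModule
  have hinv : mk L hL * (mk N hN * pull f (mk (Coh.structureModule C) hΩ)) = 1 := by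
    have h1 : mk (Coh.structureModule C) hΩ = 1 := rfl
    have h2 : mk N hN * mk L hL = 1 := by rw [mk_mul_mk, mk_eq_one_iff]; exact e
    rw [h1, map_one, mul_one, mul_comm, h2]
  obtain ⟨c1, c2⟩ := mainLF k hdim hdimC f hf hWS D hregC hWSi p hp hΩ hN hL hinv hRv
  have hV := vb_push k hdim f hf D (Fdesc.LocGen.isInvertible_tensorMod hWSi hL)
  let i : (Coh.Rpush f 0).obj (CohB1.tensorMod WS L) ≅ (Coh.push f).obj (CohB1.tensorMod WS L) :=
    (Scheme.Modules.pushforward f).rightDerivedZeroIsoSelf.app _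
  refine ⟨?_, ?_⟩
  · have h3 := isFinLocFreeOfRank_rk hV
    rw [c1] at h3
    exact rank_iso i h3
  · rw [← VarietyA.EulerAdd.euler_congr k i]
    rw [dg_structure D, dg, dg, c1] at c2
    linarith

end

end K456.RelCan
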