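import Groth.Agent.S2223
import Groth.Agent.Surf.K456.SecTriv

/-!
# Torsion invertible modules (K456)

* `iso_of_pow`: on a reduced scheme whose global functions form a field, an invertible module with a trivial power
  and a nonzero section is trivial.
* `iso_of_specialFibre`: `X` proper flat over a discrete valuation ring `R` with `H⁰(X, O) = R`, `L^h ≅ O` with `h`
  invertible in `R`, `L` trivial on the special fibre: then `L` is trivial (proof of S2223 without the regularity).
-/

set_option autoImplicit false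
universe u
open CategoryTheory AlgebraicGeometry TopologicalSpace

namespace K456.TorsTriv

open Groth.Agent Groth.Agent.Fdesc.LocGen Groth.Agent.Models.SpecFib Groth.Agent.Models.TrivGeom
  Groth.Agent.S2223 Groth.Agent.Grpsch.PicGrp

theorem iso_of_pow {X : Scheme.{u}} [AlgebraicGeometry.IsReduced X] (hF : IsField Γ(X, ⊤)) {N : X.Modules}
    (hN : PicF.IsInvertible N) {l : ℕ} (hl : 0 < l)
    (e : Nonempty (CohB1.tensorPow N l ≅ Coh.structureModule X)) {s : Γ(N, ⊤)} (hs : s ≠ 0) :
    Nonempty (N ≅ Coh.structureModule X) := by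
  obtain ⟨φ⟩ := e
  set g : Γ(X, ⊤) := ofFun.symm (φ.hom.app ⊤ (pow s l)) with hg
  have hg' : φ.hom.app ⊤ (pow s l) = g • one ⊤ := by
    rw [← ofFun_eq_smul, hg, AddEquiv.apply_symm_apply]
  have hback : pow s l = φ.inv.app ⊤ (g • one ⊤) := by
    rw [← hg']
    exact (congr($(congrArg (fun q => Scheme.Modules.Hom.app q ⊤) φ.hom_inv_id) (pow s l))).symm
  -- local form
  have hloc : ∀ x : X, ∃ (W : X.Opens) (e : Γ(N, W)) (a : Γ(X, W)), x ∈ W ∧ IsGen e ∧
      res N le_top s = a • e := by
    intro x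
    obtain ⟨U, e, hxU, he⟩ := (isInvertible_iff N).1 hN x
    obtain ⟨a, ha⟩ := he.exists_eq (res N le_top s)
    exact ⟨U, e, a, hxU, he, ha⟩
  have hg0 : g ≠ 0 := by
    intro h0
    apply hs
    rw [h0, zero_smul, map_zero] at hback
    choose W e a hxW he ha using hloc
    refine res_ext N W (fun x => le_top) ?_ ?_
    · intro x _
      exact Opens.mem_iSup.2 ⟨x, hxW x⟩
    · intro x
      have h1 := congrArg (res (CohB1.tensorPow N l) (le_top : W x ≤ ⊤)) hback
      rw [map_zero, res_pow, ha x, smul_pow] at h1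
      have h2 : a x ^ l = 0 := by
        apply ((he x).pow l).ext
        rw [h1, zero_smul]
      have h3 : a x = 0 := pow_eq_zero_iff hl.ne' |>.1 h2
      rw [ha x, h3, zero_smul, map_zero]
  have hu : IsUnit g := by
    obtain ⟨g', hg'⟩ := hF.mul_inv_cancel hg0
    exact IsUnit.of_mul_eq_one _ hg'
  have hgen : IsGen (pow s l) := by
    rw [hback]
    exact IsGen.app φ.inv ((isGen_one ⊤).unit_smul hu)
  have hsgen : IsGen s := by
    rw [isGen_iff_forall_exists]
    intro x _
    obtain ⟨W, e, a, hx, he, ha⟩ := hloc x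
    refine ⟨W, le_top, hx, ?_⟩
    have h1 := hgen.res (le_top : W ≤ ⊤)
    rw [res_pow, ha, smul_pow, (he.pow l).smul_iff] at h1
    rw [ha]
    exact he.unit_smul (isUnit_pow_iff hl.ne' |>.1 h1)
  have hiso : IsIso (homOf s) := by
    rw [isIso_iff_isGen, sec_homOf, res_refl]
    exact hsgen
  exact ⟨(asIso (homOf s)).symm⟩

/-- S2223 without regularity and with `H⁰(X, O) = R` as a hypothesis. -/
theorem iso_of_specialFibre (R : Type u) [CommRing R] [IsDomain R]
    [IsDiscreteValuationRing R] (X : Scheme.{u}) (p : X ⟶ Spec (CommRingCat.of R))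
    [hflat : Flat p] [hproper : IsProper p] (hne : Nonempty X) (hiso : IsIso p.appTop) (h : ℕ)
    (hhu : IsUnit (h : R))
    (L : X.Modules) (hL : PicF.IsInvertible L)
    (htors : Nonempty (CohB1.tensorPow L h ≅ Coh.structureModule X))
    (htriv : Nonempty ((Scheme.Modules.pullback
        (Limits.pullback.fst p (Spec.map (CommRingCat.ofHom
          (algebraMap R (IsLocalRing.ResidueField R)))))).obj L ≅
        Coh.structureModule (Models.specialFibre R X p))) :
    Nonempty (L ≅ Coh.structureModule X) := by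
  obtain ⟨α⟩ := htors
  have htriv' : Nonempty ((Scheme.Modules.pullback (ιk R X p)).obj L ≅
      Coh.structureModule (Limits.pullback p (Spec.map (CommRingCat.ofHom
        (algebraMap R (IsLocalRing.ResidueField R)))))) := htriv
  obtain ⟨β⟩ := htriv'
  obtain ⟨ϖ, hϖ⟩ := IsDiscreteValuationRing.exists_irreducible R
  have hsep : X.IsSeparated := ⟨by
    have : Limits.terminal.from X = p ≫ Limits.terminal.from _ := Limits.terminal.hom_ext _ _
    rw [this]
    infer_instance⟩
  choose V e hxV hV he using exists_affine_gen hL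
  have hV2 : ∀ x y, IsAffineOpen (V x ⊓ V y) := fun x y => (hV x).inf (hV y)
  have hcov : ⨆ x, V x = ⊤ := by
    rw [eq_top_iff]
    intro x _
    exact TopologicalSpace.Opens.mem_iSup.2 ⟨x, hxV x⟩
  -- transition functions
  have hg : ∀ x y, ∃ g : Γ(X, V x ⊓ V y), res L inf_le_right (e y) = g • res L inf_le_left (e x) :=
    fun x y => ((he x).res (inf_le_left : V x ⊓ V y ≤ V x)).exists_eq _
  choose g hg using hg
  -- the functions `a`
  let a : ∀ x, Γ(X, V x) := fun x => ofFun.symm (α.hom.app (V x) (pow (e x) h))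
  have ha' : ∀ x, a x • one (V x) = α.hom.app (V x) (pow (e x) h) := fun x => by
    rw [← ofFun_eq_smul]; exact ofFun.apply_symm_apply _
  have ha : ∀ x, IsUnit (a x) := fun x => by
    apply (isGen_one (V x)).isUnit_of_smul
    rw [ha' x]
    exact ((he x).pow h).app α.hom
  have hag : ∀ x y, ores inf_le_right (a y) = g x y ^ h * ores inf_le_left (a x) := by
    intro x y
    apply (isGen_one (V x ⊓ V y)).ext
    have e1 : ores (inf_le_right : V x ⊓ V y ≤ V y) (a y) • one (V x ⊓ V y) =
        α.hom.app (V x ⊓ V y) (pow (res L inf_le_right (e y)) h) := by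
      have := congrArg (res (Coh.structureModule X) (inf_le_right : V x ⊓ V y ≤ V y)) (ha' y)
      rw [res_smul, res_one, ← app_res, res_pow] at this
      exact this
    have e2 : ores (inf_le_left : V x ⊓ V y ≤ V x) (a x) • one (V x ⊓ V y) =
        α.hom.app (V x ⊓ V y) (pow (res L inf_le_left (e x)) h) := by
      have := congrArg (res (Coh.structureModule X) (inf_le_left : V x ⊓ V y ≤ V x)) (ha' x)
      rw [res_smul, res_one, ← app_res, res_pow] at this
      exact this
    rw [e1, hg, smul_pow, mul_smul, e2, Scheme.Modules.Hom.app_smul]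
  -- the functions `b`
  let ι := ιk R X p
  have hb : ∀ x, ∃ b : Γ(X, V x), ((ι.app (V x)).hom b) • one (ι ⁻¹ᵁ (V x)) =
      β.hom.app (ι ⁻¹ᵁ (V x)) (pullSec ι (e x)) := by
    intro x
    obtain ⟨b, hb⟩ := (app_surj_ker p (V x) (hV x)).1
      (ofFun.symm (β.hom.app (ι ⁻¹ᵁ (V x)) (pullSec ι (e x))))
    refine ⟨b, ?_⟩
    rw [← ofFun_eq_smul]
    change ofFun (((ιk R X p).app (V x)).hom b) = _
    rw [hb]
    exact ofFun.apply_symm_apply _
  choose b hb using hb
  have hbu : ∀ x, IsUnit ((ι.app (V x)).hom (b x)) := fun x => by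
    apply (isGen_one _).isUnit_of_smul
    rw [hb x]
    exact ((he x).pullSec ι).app β.hom
  have hbq : ∀ x, IsUnit (Ideal.Quotient.mk (Ideal.span {str R X p (V x) ϖ}) (b x)) := by
    intro x
    obtain ⟨z, hz⟩ := (hbu x).exists_right_inv
    obtain ⟨w, rfl⟩ := (app_surj_ker p (V x) (hV x)).1 z
    refine IsUnit.of_mul_eq_one (Ideal.Quotient.mk _ w) ?_
    rw [← map_mul, ← map_one (Ideal.Quotient.mk (Ideal.span {str R X p (V x) ϖ})),
      Ideal.Quotient.eq, mem_span_iff p ϖ hϖ _ (hV x), map_sub, map_mul, map_one]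
    rw [sub_eq_zero]
    exact hz
  have hbg : ∀ x y, ores inf_le_right (b y) - g x y * ores inf_le_left (b x) ∈
      Ideal.span {str R X p (V x ⊓ V y) ϖ} := by
    intro x y
    rw [mem_span_iff p ϖ hϖ _ (hV2 x y), map_sub, map_mul, sub_eq_zero, app_ores, app_ores]
    apply (isGen_one (ι ⁻¹ᵁ (V x ⊓ V y))).ext
    have e1 := congrArg (res (Coh.structureModule _)
      (ι.preimage_mono (inf_le_right : V x ⊓ V y ≤ V y))) (hb y)
    have e2 := congrArg (res (Coh.structureModule _)
      (ι.preimage_mono (inf_le_left : V x ⊓ V y ≤ V x))) (hb x)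
    rw [res_smul, res_one, ← app_res,
      res_pullSec ι (inf_le_right : V x ⊓ V y ≤ V y) (e y)] at e1
    rw [res_smul, res_one, ← app_res,
      res_pullSec ι (inf_le_left : V x ⊓ V y ≤ V x) (e x)] at e2
    rw [mul_smul]
    refine e1.trans ?_
    rw [hg, pullSec_smul, Scheme.Modules.Hom.app_smul]
    exact congrArg (fun z => ((ιk R X p).app (V x ⊓ V y)).hom (g x y) • z) e2.symm
  -- the algebra structures
  letI algA : ∀ x, Algebra R Γ(X, V x) := fun x => (str R X p (V x)).toAlgebra
  letI algA2 : ∀ x y, Algebra R Γ(X, V x ⊓ V y) := fun x y => (str R X p (V x ⊓ V y)).toAlgebra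
  let l : ∀ x y, Γ(X, V x) →ₐ[R] Γ(X, V x ⊓ V y) := fun x y =>
    { ores (inf_le_left : V x ⊓ V y ≤ V x) with
      commutes' := fun r => ores_str p _ r }
  let r : ∀ x y, Γ(X, V y) →ₐ[R] Γ(X, V x ⊓ V y) := fun x y =>
    { ores (inf_le_right : V x ⊓ V y ≤ V y) with
      commutes' := fun r => ores_str p _ r }
  -- global functions
  have hH0' : ∀ t : ∀ x, Γ(X, V x), (∀ x y, l x y (t x) = r x y (t y)) →
      ∃ c : R, ∀ x, t x = algebraMap R Γ(X, V x) c := by
    intro t ht
    obtain ⟨w, hw⟩ := ores_glue (V := ⊤) V (fun x => le_top) (by rw [hcov]) t ht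
    obtain ⟨z, hz⟩ := (ConcreteCategory.bijective_of_isIso p.appTop).2 w
    refine ⟨(Scheme.ΓSpecIso (CommRingCat.of R)).hom.hom z, fun x => ?_⟩
    rw [← hw x, ← hz]
    change _ = str R X p (V x) _
    have h4 : (Scheme.ΓSpecIso (CommRingCat.of R)).inv.hom
        ((Scheme.ΓSpecIso (CommRingCat.of R)).hom.hom z) = z := by
      change ((Scheme.ΓSpecIso (CommRingCat.of R)).hom ≫ (Scheme.ΓSpecIso (CommRingCat.of R)).inv).hom z = z
      rw [Iso.hom_inv_id]; rfl
    simp only [str, RingHom.comp_apply, h4]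
    rfl
  obtain ⟨N, hBT⟩ := bt_cocycle p ϖ hϖ.ne_zero L hL V hxV e he g hg
  obtain ⟨s, hs1, hs2⟩ := Groth.Agent.Models.TrivMain.core ϖ hϖ.maximalIdeal_eq
    (fun x => Γ(X, V x)) (fun x y => Γ(X, V x ⊓ V y)) l r g h hhu a ha hag b hbq hbg
    (fun u hu => integral_special p ϖ hϖ V hxV hV hV2 u hu) hH0' N hBT (by
      by_contra hall
      push Not at hall
      obtain ⟨x₀⟩ : Nonempty X := hne
      choose q hq using fun x => (hall x).exists_right_inv
      obtain ⟨c, hc⟩ := hH0' q (by
        intro x y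
        have h1 : IsUnit (algebraMap R Γ(X, V x ⊓ V y) ϖ) := by
          have := (hall x).map (l x y)
          rwa [AlgHom.commutes] at this
        apply h1.mul_left_injective
        have h2 := congrArg (l x y) (hq x)
        have h3 := congrArg (r x y) (hq y)
        rw [map_mul, map_one, AlgHom.commutes] at h2 h3
        change l x y (q x) * _ = r x y (q y) * _
        rw [mul_comm, h2, mul_comm, h3])
      have h4 : algebraMap R Γ(X, V x₀) (ϖ * c - 1) = 0 := by
        rw [map_sub, map_mul, map_one, ← hc x₀, hq x₀, sub_self]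
      have h5 : IsUnit (ϖ * c - 1) := by
        have h6 : ϖ * c ∈ IsLocalRing.maximalIdeal R :=
          Ideal.mul_mem_right _ _ ((IsLocalRing.mem_maximalIdeal ϖ).2 hϖ.not_isUnit)
        by_contra h7
        have h8 := (IsLocalRing.maximalIdeal R).sub_mem h6 ((IsLocalRing.mem_maximalIdeal _).2 h7)
        rw [sub_sub_cancel] at h8
        exact (IsLocalRing.mem_maximalIdeal _).1 h8 isUnit_one
      have h6 := h5.map (algebraMap R Γ(X, V x₀))
      rw [h4, isUnit_zero_iff] at h6
      haveI : Nonempty (V x₀) := ⟨⟨x₀, hxV x₀⟩⟩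
      exact zero_ne_one h6)
  -- glue the generator
  obtain ⟨σ, hσ⟩ := res_glue L (V := ⊤) V (fun x => le_top) (by rw [hcov]) (fun x => s x • e x) (by
    intro x y
    rw [res_smul, res_smul, hg, smul_smul]
    congr 1
    have := hs2 x y
    refine Eq.trans (b := g x y * ores inf_le_right (s y)) this ?_
    rw [mul_comm])
  have hgen : IsGen σ := by
    refine IsGen.of_cover V (fun x => le_top) (by rw [hcov]) (fun x => ?_)
    rw [hσ x]
    exact (he x).unit_smul (hs1 x)
  have hI : IsIso (homOf σ) := by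
    rw [isIso_iff_isGen, sec_homOf, res_refl]
    exact hgen
  exact ⟨(asIso (homOf σ)).symm⟩


end K456.TorsTriv
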